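import Cfsg.Agent.Lib.SecondMain.Columns
import Cfsg.Agent.Lib.CentralChar.Congr
import Cfsg.Agent.Lib.Blocks.Local
import Cfsg.Agent.Lib.Blocks.Defect
import Cfsg.Agent.Lib.Char.Eigen
import Cfsg.Agent.Lib.Cores.Basic
import Cfsg.Agent.Lib.Involution.Basic
import Cfsg.Agent.Lib.Transfer.Residual
import Cfsg.Agent.S0205

/-!
# Constant degree minus value on the principal 2-block (for S4514; owner: helper96)

* `Const M u k` : `χ 1 - χ u = k` on the non-principal characters of the principal block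
* `eq_one_of_kernel` : with trivial core nothing but `1` is killed by the principal block
* `isConj_two_part` : every non-trivial 2-element is conjugate to the 2-part of `u`
* `eq_top_of_centralizer_le` : a normal subgroup containing the centraliser of a Sylow subgroup is everything
-/

set_option autoImplicit false
set_option linter.unusedSectionVars false
set_option linter.style.haveILetI false

open scoped ComplexConjugate

namespace Cfsg.Agent.ConstDiff

open Cfsg Cfsg.Agent.Blocks Cfsg.Agent.SecondMain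

universe u

variable {G : Type u} [Group G] [Finite G] {M : Ideal AlgInt}

/-- The hypothesis of S4514. -/
def Const (M : Ideal AlgInt) (u : G) (k : ℂ) : Prop :=
  ∀ χ : IrrCharacter G, χ ∈ principalBlock M G → (χ : G → ℂ) ≠ (fun _ => 1) →
    (χ : G → ℂ) 1 - (χ : G → ℂ) u = k

/-- The non-principal characters of the principal block. -/
noncomputable def rest (M : Ideal AlgInt) (G : Type u) [Group G] [Finite G] : Finset (IrrCharacter G) := by
  classical exact (Set.toFinite (principalBlock M G)).toFinset.erase (BrauerPairs.oneIrr G)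

theorem mem_rest {χ : IrrCharacter G} :
    χ ∈ rest M G ↔ χ ∈ principalBlock M G ∧ (χ : G → ℂ) ≠ fun _ => 1 := by
  classical
  rw [rest, Finset.mem_erase, Set.Finite.mem_toFinset]
  refine ⟨fun h => ⟨h.2, fun e => h.1 (Subtype.ext e)⟩, fun h => ⟨fun e => h.2 ?_, h.1⟩⟩
  subst e; rfl

theorem exists_degree (χ : IrrCharacter G) :
    (charDegree (χ : G → ℂ) : ℂ) = (χ : G → ℂ) 1 ∧ 0 < charDegree (χ : G → ℂ) := by
  refine ⟨?_, charDegree_pos χ⟩
  obtain ⟨n, hn⟩ := Char.IsIrrCharacter.exists_degree χ.2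
  simp [charDegree, hn]

theorem colSum_eq (hM : IsPModular 2 M) (g h : G) :
    colSum (principalBlock M G) g h =
      1 + ∑ χ ∈ rest M G, (χ : G → ℂ) g * conj ((χ : G → ℂ) h) := by
  classical
  rw [colSum, finsum_mem_eq_finite_toFinset_sum _ (Set.toFinite _), rest,
    ← Finset.add_sum_erase _ _
      ((Set.Finite.mem_toFinset _).2 (BrauerPairs.oneIrr_mem_principal hM (G := G)))]
  simp [BrauerPairs.oneIrr]

/-- Columns of the principal block in different sections. -/
theorem colSum_two_part (hM : IsPModular 2 M) {x y v : G} (hx : ∃ j, orderOf x = 2 ^ j)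
    (hy : ¬ 2 ∣ orderOf y) (hc : Commute x y) (hv : ∃ j, orderOf v = 2 ^ j) (hne : ¬ IsConj x v) :
    colSum (principalBlock M G) (x * y) v = 0 := by
  have h := colSum_eq_zero hM (BrauerPairs.isPBlock_principal (M := M)) hx hv hy
    (y' := 1) (by simp) hc (Commute.one_right v) hne
  rwa [mul_one] at h

theorem colSum_one_two (hM : IsPModular 2 M) {v : G} (hv : ∃ j, orderOf v = 2 ^ j) (hv1 : v ≠ 1) :
    colSum (principalBlock M G) 1 v = 0 := by
  have h := colSum_two_part hM (x := 1) (y := 1) ⟨0, by simp⟩ (by simp) (Commute.one_right 1) hv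
    (fun h => hv1 (by simpa using isConj_iff.1 h |>.choose_spec.symm))
  rwa [mul_one] at h

theorem coe_apply_mul_eq {χ : IrrCharacter G} {g : G} (hg : (χ : G → ℂ) g = (χ : G → ℂ) 1) (x : G) :
    (χ : G → ℂ) (g * x) = (χ : G → ℂ) x := by
  obtain ⟨n, ρ, hirr, hρ⟩ := χ.2
  rw [← hρ, Representation.char_one, Char.character_eq_finrank_iff] at hg
  rw [← hρ]
  show LinearMap.trace ℂ _ (ρ (g * x)) = LinearMap.trace ℂ _ (ρ x)
  rw [map_mul, hg]
  rfl

/-- With trivial core the principal block is faithful. -/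
theorem eq_one_of_kernel (hM : IsPModular 2 M) (hO : oddCore G = ⊥) {g : G}
    (hg : ∀ χ ∈ principalBlock M G, (χ : G → ℂ) g = (χ : G → ℂ) 1) : g = 1 := by
  let N : Subgroup G :=
    { carrier := {a | ∀ χ ∈ principalBlock M G, ∀ x, (χ : G → ℂ) (a * x) = (χ : G → ℂ) x}
      one_mem' := fun χ _ x => by rw [one_mul]
      mul_mem' := fun {a b} ha hb χ hχ x => by rw [mul_assoc, ha χ hχ, hb χ hχ]
      inv_mem' := fun {a} ha χ hχ x => by
        conv_rhs => rw [← mul_inv_cancel_left a x]
        rw [ha χ hχ] }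
  haveI hN : N.Normal := ⟨fun a ha c χ hχ x => by
    have hcl : ∀ z, (χ : G → ℂ) (c * z * c⁻¹) = (χ : G → ℂ) z := fun z => irr_class χ z c
    rw [show c * a * c⁻¹ * x = c * (a * (c⁻¹ * x * c)) * c⁻¹ by group, hcl, ha χ hχ,
      ← hcl (c⁻¹ * x * c)]
    group⟩
  haveI : Fact (Nat.Prime 2) := ⟨Nat.prime_two⟩
  have hodd : ¬ 2 ∣ Nat.card N := fun h => by
    obtain ⟨v, hv⟩ := exists_prime_orderOf_dvd_card' 2 h
    have hv2 : orderOf (v : G) = 2 := by rw [Subgroup.orderOf_coe, hv]
    have h0 := colSum_one_two hM ⟨1, by rw [hv2]; rfl⟩ (Involution.ne_one hv2)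
    rw [colSum_eq hM] at h0
    have hterm : ∀ χ ∈ rest M G, (χ : G → ℂ) 1 * conj ((χ : G → ℂ) v) =
        ((charDegree (χ : G → ℂ) * charDegree (χ : G → ℂ) : ℕ) : ℂ) := fun χ hχ => by
      have := v.2 χ (mem_rest.1 hχ).1 1
      rw [mul_one] at this
      rw [this, ← (exists_degree χ).1]
      simp
    rw [Finset.sum_congr rfl hterm, ← Nat.cast_sum, ← Nat.cast_one, ← Nat.cast_add,
      Nat.cast_eq_zero] at h0
    omega
  have hbot : N = ⊥ := le_bot_iff.1 (hO ▸ Cores.le_pPrimeCore hN
    (Nat.coprime_comm.1 (Nat.prime_two.coprime_iff_not_dvd.2 hodd)))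
  exact Subgroup.mem_bot.1 (hbot ▸ show g ∈ N from fun χ hχ x => coe_apply_mul_eq (hg χ hχ) x)

/-- For `k = 0` the element is trivial. -/
theorem eq_one_of_zero (hM : IsPModular 2 M) (hO : oddCore G = ⊥) {u : G}
    (hC : Const M u 0) : u = 1 :=
  eq_one_of_kernel hM hO fun χ hχ => by
    by_cases h : (χ : G → ℂ) = fun _ => 1
    · rw [h]
    · exact (sub_eq_zero.1 (hC χ hχ h)).symm

theorem conj_eq_inv (χ : IrrCharacter G) (g : G) : conj ((χ : G → ℂ) g) = (χ : G → ℂ) g⁻¹ :=
  ((Char.IsCharacter.apply_inv (Char.IsIrrCharacter.isCharacter χ.2)) g).symm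

/-- **Parity: all non-trivial 2-elements are conjugate to the 2-part of `u`.** -/
theorem isConj_two_part (hM : IsPModular 2 M) (hO : oddCore G = ⊥) {x y : G} {k : ℂ}
    (hC : Const M (x * y) k) (hu : x * y ≠ 1) (hx : ∃ j, orderOf x = 2 ^ j) (hy : ¬ 2 ∣ orderOf y)
    (hc : Commute x y) {v : G} (hv : ∃ j, orderOf v = 2 ^ j) (hv1 : v ≠ 1) : IsConj x v := by
  by_contra hne
  have h1 := colSum_two_part hM hx hy hc hv hne
  have h2 := colSum_one_two hM hv hv1
  rw [colSum_eq hM] at h1 h2
  have hk : k ≠ 0 := fun e => hu (eq_one_of_zero hM hO (e ▸ hC))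
  have h3 : k * ∑ χ ∈ rest M G, conj ((χ : G → ℂ) v) = 0 := by
    rw [Finset.mul_sum]
    have e : ∀ χ ∈ rest M G, k * conj ((χ : G → ℂ) v) =
        (χ : G → ℂ) 1 * conj ((χ : G → ℂ) v) - (χ : G → ℂ) (x * y) * conj ((χ : G → ℂ) v) :=
      fun χ hχ => by rw [← hC χ (mem_rest.1 hχ).1 (mem_rest.1 hχ).2, sub_mul]
    rw [Finset.sum_congr rfl e, Finset.sum_sub_distrib]
    linear_combination h2 - h1
  have h4 := (mul_eq_zero.1 h3).resolve_left hk
  obtain ⟨j, hj⟩ := hv
  refine not_memI_one hM ?_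
  -- `1 = -∑ χ 1 χ v⁻¹ + ∑ χ v⁻¹` lies in the maximal ideal
  have hkey : ∀ χ ∈ rest M G, MemLocalIdeal M
      ((χ : G → ℂ) 1 * conj ((χ : G → ℂ) v) - conj ((χ : G → ℂ) v)) := by
    intro χ _
    rw [conj_eq_inv]
    have hw : MemLocalIdeal M ((χ : G → ℂ) v⁻¹ - (χ : G → ℂ) 1) :=
      CentralChar.memI_sub_apply_one hM (Char.IsIrrCharacter.isCharacter χ.2) (k := j)
        (by rw [inv_pow, ← hj, pow_orderOf_eq_one, inv_one])
    obtain ⟨n, hn⟩ : ∃ n, n = charDegree (χ : G → ℂ) := ⟨_, rfl⟩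
    have hd : (χ : G → ℂ) 1 = (n : ℂ) := by rw [hn, (exists_degree χ).1]
    rw [hd] at hw ⊢
    have h5 : MemLocalIdeal M (((n : ℂ) - 1) * ((χ : G → ℂ) v⁻¹ - (n : ℂ))) :=
      memI_mul_left hM (memR_sub hM (memR_natCast hM n) (memR_one hM)) hw
    have h6 : MemLocalIdeal M ((n * (n - 1) : ℕ) : ℂ) := (memI_natCast hM).2 (by
      rcases Nat.even_or_odd n with h | h
      · exact dvd_mul_of_dvd_left h.two_dvd _
      · exact dvd_mul_of_dvd_right (Nat.Odd.sub_odd h odd_one).two_dvd _)
    have h7 : ((n * (n - 1) : ℕ) : ℂ) = (n : ℂ) * ((n : ℂ) - 1) := by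
      rcases n with _ | n <;> simp
    rw [h7] at h6
    convert memI_add hM h5 h6 using 1
    ring
  have hsum : ∑ χ ∈ rest M G, ((χ : G → ℂ) 1 * conj ((χ : G → ℂ) v) - conj ((χ : G → ℂ) v)) = -1 := by
    rw [Finset.sum_sub_distrib, h4, sub_zero]
    linear_combination h2
  have h8 := memI_sum hM (rest M G) hkey
  rw [hsum] at h8
  simpa using memI_neg h8

/-- A linear character trivial on a normal subgroup containing the centraliser of a Sylow 2-subgroup
lies in the principal block. -/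
theorem linear_mem (hM : IsPModular 2 M) (S : Sylow 2 G) {K : Subgroup G} [K.Normal]
    (hK : Subgroup.centralizer ((S : Subgroup G) : Set G) ≤ K) (l : G →* ℂ)
    (hl : ∀ g ∈ K, l g = 1) :
    (⟨l, Char.isIrrCharacter_of_hom l⟩ : IrrCharacter G) ∈ principalBlock M G := by
  haveI : Fact (Nat.Prime 2) := ⟨Nat.prime_two⟩
  intro g
  show MemLocalIdeal M (centralChar (fun _ : G => (1 : ℂ)) g - centralChar (l : G → ℂ) g)
  simp only [centralChar, map_one, div_one, mul_one]
  rw [← mul_one_sub]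
  by_cases he : 2 ∣ (Subgroup.centralizer ({g} : Set G)).index
  · refine memI_mul_right hM ((memI_natCast hM).2 he) ?_
    have hli : IsIntegral ℤ (l g) := by
      refine IsIntegral.of_pow (orderOf_pos g) ?_
      rw [← map_pow, pow_orderOf_eq_one, map_one]
      exact isIntegral_one
    exact memR_sub hM (memR_one hM) (memR_of_isIntegral hM hli)
  · have hg : g ∈ K := by
      set C := Subgroup.centralizer ({g} : Set G)
      obtain ⟨T⟩ : Nonempty (Sylow 2 C) := inferInstance
      have hT' : IsPGroup 2 ((T : Subgroup C).map C.subtype) := T.2.map _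
      obtain ⟨R, hR⟩ := hT'.exists_le_sylow
      have hRC : (R : Subgroup G) = (T : Subgroup C).map C.subtype := by
        refine (Subgroup.eq_of_le_of_card_ge hR (le_of_eq ?_)).symm
        rw [Subgroup.card_map_of_injective C.subtype_injective, R.card_eq_multiplicity,
          T.card_eq_multiplicity, ← C.card_mul_index, Nat.factorization_mul Nat.card_pos.ne'
          C.index_ne_zero_of_finite, Finsupp.add_apply, Nat.factorization_eq_zero_of_not_dvd he, add_zero]
      obtain ⟨c, hc⟩ := MulAction.exists_smul_eq G R S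
      have hcg : c * g * c⁻¹ ∈ Subgroup.centralizer ((S : Subgroup G) : Set G) := by
        rw [Subgroup.mem_centralizer_iff, ← hc]
        rintro _ ⟨r, hr, rfl⟩
        rw [SetLike.mem_coe, hRC] at hr
        obtain ⟨r', -, rfl⟩ := hr
        show c * (r' : G) * c⁻¹ * (c * g * c⁻¹) = c * g * c⁻¹ * (c * (r' : G) * c⁻¹)
        rw [show c * (r' : G) * c⁻¹ * (c * g * c⁻¹) = c * ((r' : G) * g) * c⁻¹ by group,
          Subgroup.mem_centralizer_singleton_iff.1 r'.2]
        group
      have := Subgroup.Normal.conj_mem ‹K.Normal› _ (hK hcg) c⁻¹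
      simpa [mul_assoc] using this
    rw [hl g hg, sub_self, mul_zero]
    exact memI_zero hM

/-- A normal subgroup containing the centraliser of a Sylow 2-subgroup is the whole group. -/
theorem eq_top_of_centralizer_le (hM : IsPModular 2 M) (hO : oddCore G = ⊥) {u : G} {k : ℂ}
    (hC : Const M u k) (hu : u ≠ 1) (S : Sylow 2 G) (hS : IsMulCommutative (S : Subgroup G))
    {K : Subgroup G} [K.Normal] (hK : Subgroup.centralizer ((S : Subgroup G) : Set G) ≤ K) :
    K = ⊤ := by
  haveI : Fact (Nat.Prime 2) := ⟨Nat.prime_two⟩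
  by_contra hne
  have hSK : (S : Subgroup G) ≤ K := le_trans (fun s hs => Subgroup.mem_centralizer_iff.2 fun r hr =>
    congrArg Subtype.val (hS.is_comm.comm (⟨r, hr⟩ : (S : Subgroup G)) ⟨s, hs⟩)) hK
  have hodd : Odd K.index := Nat.not_even_iff_odd.1 fun h =>
    S.not_dvd_index ((even_iff_two_dvd.1 h).trans (Subgroup.index_dvd_of_le hSK))
  haveI : Group.IsSolvable (G ⧸ K) := OddOrderTheorem.solvable (by rwa [← Subgroup.index_eq_card])
  haveI : Nontrivial (G ⧸ K) := by
    refine Finite.one_lt_card_iff_nontrivial.1 ?_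
    rw [← Subgroup.index_eq_card]
    exact Subgroup.one_lt_index_of_ne_top hne
  have hlt : commutator (G ⧸ K) < ⊤ := Group.IsSolvable.commutator_lt_top_of_nontrivial _
  obtain ⟨q, -, hq⟩ := SetLike.exists_of_lt hlt
  have hqa : Abelianization.of q ≠ 1 := fun e =>
    hq (by simpa using (QuotientGroup.eq_one_iff (N := commutator (G ⧸ K)) q).1 e)
  obtain ⟨φ, hφ⟩ := CommGroup.exists_apply_ne_one_of_hasEnoughRootsOfUnity
    (Abelianization (G ⧸ K)) ℂ hqa
  let l : G →* ℂˣ := φ.comp (Abelianization.of.comp (QuotientGroup.mk' K))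
  have hl : ∀ g ∈ K, l g = 1 := fun g hg => by
    show φ (Abelianization.of (QuotientGroup.mk' K g)) = 1
    rw [show QuotientGroup.mk' K g = 1 from (QuotientGroup.eq_one_iff g).2 hg, map_one, map_one]
  obtain ⟨g, rfl⟩ := QuotientGroup.mk'_surjective K q
  have hl1 : l g ≠ 1 := hφ
  have hval : ∀ m : G →* ℂˣ, (∀ g ∈ K, m g = 1) → m g ≠ 1 → (1 : ℂ) - (m u : ℂ) = k := by
    intro m hm hm1
    have hmem := linear_mem hM S hK ((Units.coeHom ℂ).comp m) (fun a ha => by simp [hm a ha])
    have := hC _ hmem (fun e => hm1 (Units.ext (congrFun e g)))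
    simpa using this
  have h1 := hval l hl hl1
  have h2 := hval l⁻¹ (fun a ha => by simp [hl a ha]) (by simpa using hl1)
  have hz : l u = (l u)⁻¹ := Units.ext (by
    rw [← h2] at h1
    simpa using sub_right_injective h1)
  have hsq : l u ^ 2 = 1 := by rw [pow_two]; nth_rewrite 2 [hz]; exact mul_inv_cancel _
  have hpow : l u ^ K.index = 1 := by rw [← map_pow]; exact hl _ (K.pow_index_mem u)
  have hu1 : l u = 1 := by
    have := pow_gcd_eq_one.2 ⟨hsq, hpow⟩
    rwa [Nat.Coprime.gcd_eq_one (Nat.coprime_two_left.2 hodd), pow_one] at this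
  refine hu (eq_one_of_zero hM hO ?_)
  rw [show (0 : ℂ) = k by rw [← h1, hu1]; simp]
  exact hC

end Cfsg.Agent.ConstDiff
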