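import Cfsg.Agent.Lib.ConstDiff.Basic
import Cfsg.Agent.Lib.PSL2.SolCount
import Cfsg.Agent.Lib.PSL2.SolEven
import Cfsg.Agent.Lib.BlocksNormal.Cover
import Cfsg.Agent.Lib.PSL2.OddGraph
import Cfsg.Agent.Lib.PSL2.Soluble
import Cfsg.Agent.Lib.Codegree.Basic
import Cfsg.Agent.Lib.GLOrder.Two
import Cfsg.Agent.Lib.BlocksNormal.Deflate
import Cfsg.Agent.Lib.Char.Orth

/-!
# The converse and the passage to the quotient by the core (for S4514; owner: helper96)

* `const_two` : order two gives `k = 2`
* `const_psl` : in `L₂(q)`, `q` even, `χ 1 - χ t = q` for every non-principal irreducible `χ`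
* `const_quotient` : the condition only depends on the quotient by the core
-/

set_option autoImplicit false
set_option linter.unusedSectionVars false
set_option linter.style.haveILetI false

open scoped ComplexConjugate

namespace Cfsg.Agent.ConstDiff

open Cfsg Cfsg.Agent.Blocks

universe u

variable {G : Type u} [Group G] [Finite G] {M : Ideal AlgInt}

/-- The condition only depends on the quotient by the core. -/
theorem const_quotient (hM : IsPModular 2 M) (u : G) (k : ℂ) :
    Const M u k ↔ Const M (QuotientGroup.mk u : G ⧸ oddCore G) k := by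
  haveI : Fact (Nat.Prime 2) := ⟨Nat.prime_two⟩
  have := Fintype.ofFinite G
  have := Fintype.ofFinite (G ⧸ pPrimeCore 2 G)
  have := Fintype.ofFinite (pPrimeCore 2 G)
  have hπ := QuotientGroup.mk'_surjective (pPrimeCore 2 G)
  have hker : ¬ 2 ∣ Nat.card (QuotientGroup.mk' (pPrimeCore 2 G)).ker := by
    rw [QuotientGroup.ker_mk']
    exact Cores.not_dvd_card_pPrimeCore
  constructor
  · intro hC ψ hψ hne
    exact hC ⟨_, Char.IsIrrCharacter.comp_surjective ψ.2 (QuotientGroup.mk' (pPrimeCore 2 G)) hπ⟩
      (BlocksNormal.sameBlock_comp hM hπ (χ := BrauerPairs.oneIrr (G ⧸ pPrimeCore 2 G)) hψ)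
      fun e => hne (funext fun y => by
        obtain ⟨g, rfl⟩ := hπ y
        exact congrFun e g)
  · intro hC χ hχ hne
    obtain ⟨φ, hφ⟩ := CentralChar.exists_deflation (pPrimeCore 2 G) χ (BlocksNormal.trivOn_of_sameBlock _ hM
      Cores.not_dvd_card_pPrimeCore (χ := BrauerPairs.oneIrr G) hχ (fun _ _ => rfl))
    have hmem : φ ∈ principalBlock M (G ⧸ pPrimeCore 2 G) := by
      refine BlocksNormal.sameBlock_of_comp hM hπ hker (χ := BrauerPairs.oneIrr (G ⧸ pPrimeCore 2 G)) ?_
      have h : SameBlock M (fun _ : G => (1 : ℂ)) (χ : G → ℂ) := hχ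
      rwa [funext hφ] at h
    rw [hφ, hφ, QuotientGroup.mk_one]
    exact hC φ hmem fun e => hne (funext fun g => by rw [hφ g, e])

theorem const_one : Const M (1 : G) 0 := fun χ _ _ => sub_self _

/-- A group of order two. -/
theorem const_two (h2 : Nat.card G = 2) {u : G} (hu : u ≠ 1) : Const M u 2 := by
  classical
  intro χ _ hne
  have := Fintype.ofFinite G
  have := Fintype.ofFinite (IrrCharacter G)
  set d := charDegree (χ : G → ℂ) with hd
  have hdc : (d : ℂ) = (χ : G → ℂ) 1 := (exists_degree χ).1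
  have h1 : charDegree (BrauerPairs.oneIrr G : G → ℂ) ^ 2 + d ^ 2 ≤ 2 := by
    have hs := Char.sum_sq_degrees (G := G)
    simp only [← fun θ : IrrCharacter G => (exists_degree θ).1, ← Nat.cast_pow, ← Nat.cast_sum,
      Nat.cast_inj, h2] at hs
    refine le_trans ?_ hs.le
    rw [← Finset.sum_pair (f := fun θ : IrrCharacter G => charDegree (θ : G → ℂ) ^ 2)
      (show BrauerPairs.oneIrr G ≠ χ from fun e => hne (by rw [← e]; rfl))]
    exact Finset.sum_le_sum_of_subset_of_nonneg (Finset.subset_univ _) fun _ _ _ => Nat.zero_le _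
  have hd1 : d = 1 := by
    have := (exists_degree χ).2
    have h0 := (exists_degree (BrauerPairs.oneIrr G)).2
    nlinarith
  have huniv : (Finset.univ : Finset G) = {1, u} :=
    (Finset.eq_univ_of_card _ (by rw [Finset.card_pair hu.symm, ← Nat.card_eq_fintype_card, h2])).symm
  have hsum : ∑ g : G, (χ : G → ℂ) g = 0 := by
    have h := Char.classInner_irr_of_ne χ.2 Char.isIrrCharacter_one hne
    rw [classInner, mul_eq_zero, inv_eq_zero] at h
    have h' := h.resolve_left Blocks.card_ne_zero_C
    simpa using h'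
  rw [huniv, Finset.sum_pair hu.symm] at hsum
  rw [hd1, Nat.cast_one] at hdc
  rw [← hdc] at hsum ⊢
  linear_combination -hsum

/-- The trace classes of `SL(2,F)`, characteristic two. -/
theorem card_classes_sl {F : Type*} [Field F] [Fintype F] [CharP F 2] :
    Fintype.card F + 1 ≤ Nat.card (ConjClasses (Matrix.SpecialLinearGroup (Fin 2) F)) := by
  classical
  let m : F → Matrix.SpecialLinearGroup (Fin 2) F := fun a =>
    ⟨!![a, 1; 1, 0], by rw [Matrix.det_fin_two_of, mul_zero, zero_sub, one_mul, CharTwo.neg_eq]⟩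
  let f : Option F → ConjClasses (Matrix.SpecialLinearGroup (Fin 2) F) := fun o =>
    o.elim (ConjClasses.mk 1) fun a => ConjClasses.mk (m a)
  have hne : ∀ a, ConjClasses.mk (m a) ≠ ConjClasses.mk (1 : Matrix.SpecialLinearGroup (Fin 2) F) := by
    intro a h
    have h' := isConj_one_left.1 (ConjClasses.mk_eq_mk_iff_isConj.1 h)
    have := congrArg (fun A : Matrix.SpecialLinearGroup (Fin 2) F => A.1 0 1) h'
    simp [m] at this
  have hinj : Function.Injective f := by
    rintro (_ | a) (_ | b) h
    · rfl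
    · exact absurd h.symm (hne b)
    · exact absurd h (hne a)
    · obtain ⟨c, hc⟩ := isConj_iff.1 (ConjClasses.mk_eq_mk_iff_isConj.1 h)
      have := congrArg (fun A : Matrix.SpecialLinearGroup (Fin 2) F => A.1.trace) hc
      simp only [Matrix.SpecialLinearGroup.coe_mul] at this
      rw [Matrix.trace_mul_comm, ← mul_assoc, ← Matrix.SpecialLinearGroup.coe_mul, inv_mul_cancel,
        Matrix.SpecialLinearGroup.coe_one, one_mul] at this
      simp [m, Matrix.trace_fin_two] at this
      rw [this]
  have := Nat.card_le_card_of_injective f hinj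
  rwa [Finite.card_option, Nat.card_eq_fintype_card] at this

/-- The classes of `L₂(q)`, `q` even. -/
theorem card_classes {F : Type*} [Field F] [Fintype F] [CharP F 2]
    (e : G ≃* Matrix.ProjectiveSpecialLinearGroup (Fin 2) F) :
    Fintype.card F + 1 ≤ Nat.card (ConjClasses G) := by
  have hbij : Function.Bijective
      (QuotientGroup.mk' (Subgroup.center (Matrix.SpecialLinearGroup (Fin 2) F))) := by
    refine ⟨(MonoidHom.ker_eq_bot_iff _).1 ?_, QuotientGroup.mk'_surjective _⟩
    rw [QuotientGroup.ker_mk', eq_bot_iff]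
    intro z hz
    rcases GLOrder.center_SL2.1 hz with rfl | rfl
    · exact Subgroup.one_mem _
    · rw [Subgroup.mem_bot]
      apply Subtype.ext
      ext i j
      simp [CharTwo.neg_eq]
  let f : Matrix.SpecialLinearGroup (Fin 2) F →* G := e.symm.toMonoidHom.comp (QuotientGroup.mk' _)
  have hf : Function.Bijective f := e.symm.bijective.comp hbij
  refine card_classes_sl.trans (Nat.card_le_card_of_injective (ConjClasses.map f) ?_)
  intro a b
  refine Quotient.inductionOn₂ a b fun x y h => ?_
  obtain ⟨c, hc⟩ := isConj_iff.1 (ConjClasses.mk_eq_mk_iff_isConj.1 h)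
  obtain ⟨c, rfl⟩ := hf.2 c
  rw [← map_inv, ← map_mul, ← map_mul] at hc
  exact ConjClasses.mk_eq_mk_iff_isConj.2 (isConj_iff.2 ⟨c, hf.1 hc⟩)

/-- **`L₂(q)`, `q` even: `χ 1 - χ t = q`.** -/
theorem const_psl {F : Type} [Field F] [Fintype F] {n : ℕ} (hn : 2 ≤ n) (hF : Fintype.card F = 2 ^ n)
    (e : G ≃* Matrix.ProjectiveSpecialLinearGroup (Fin 2) F) {t : G} (ht : orderOf t = 2) :
    Const M t (Fintype.card F : ℂ) := by
  classical
  haveI : Fact (Nat.Prime 2) := ⟨Nat.prime_two⟩
  haveI : CharP F 2 := charP_of_card_eq_prime_pow (f := n) (by simpa using hF)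
  have hq4 : 4 ≤ Nat.card F := by
    rw [Nat.card_eq_fintype_card, hF]
    exact le_trans (le_of_eq (by norm_num)) (Nat.pow_le_pow_right two_pos hn)
  haveI := PSL2.isSimpleGroup_psl hq4
  haveI : Nontrivial G := ⟨⟨t, 1, Involution.ne_one ht⟩⟩
  haveI : IsSimpleGroup G := IsSimpleGroup.isSimpleGroup_of_surjective e.symm.toMonoidHom e.symm.surjective
  have := Fintype.ofFinite G
  have := Fintype.ofFinite (IrrCharacter G)
  have hx : orderOf (e t) = 2 := by rw [e.orderOf_eq, ht]
  have hone : ∀ v : G, orderOf v = 2 → IsConj t v := fun v hv => by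
    obtain ⟨c, hc⟩ := isConj_iff.1 (PSL2.isConj_involution_even hx (y := e v) (by rw [e.orderOf_eq, hv]))
    exact isConj_iff.2 ⟨e.symm c, e.injective (by simp [hc])⟩
  set A := Subgroup.centralizer ({t} : Set G) with hA
  have hAcard : Nat.card A = Fintype.card F := by
    rw [← Nat.card_eq_fintype_card, ← PSL2.card_centralizer_char 2 hx]
    exact Nat.card_congr (Equiv.subtypeEquiv e.toEquiv fun y => by
      rw [hA, Subgroup.mem_centralizer_singleton_iff, Subgroup.mem_centralizer_singleton_iff]
      exact ⟨fun h => by simpa using congrArg e h, fun h => e.injective (by simpa using h)⟩)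
  obtain ⟨P, hP⟩ := PSL2.exists_fix_of_pow_char 2 (z := e t) (orderOf_dvd_iff_pow_eq_one.1 hx.dvd)
  have hsq : ∀ a ∈ A, a * a = 1 := fun a ha => by
    have hc : e a * e t = e t * e a := by
      rw [← map_mul, ← map_mul, Subgroup.mem_centralizer_singleton_iff.1 ha]
    have h2 := ((PSL2.centralizer_char_eq 2 hx hP).1 hc).1
    rw [← map_pow, ← map_one e, pow_two] at h2
    exact e.injective h2
  letI : CommGroup A :=
    { (inferInstance : Group A) with
      mul_comm := fun a b => Subtype.ext (by
        have hab := hsq _ (A.mul_mem a.2 b.2)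
        show (a : G) * b = b * a
        calc (a : G) * b = ((a : G) * b)⁻¹ := (inv_eq_of_mul_eq_one_right hab).symm
          _ = (b : G) * a := by rw [mul_inv_rev, inv_eq_of_mul_eq_one_right (hsq _ b.2),
            inv_eq_of_mul_eq_one_right (hsq _ a.2)]) }
  have htA : t ∈ A := Subgroup.mem_centralizer_singleton_iff.2 rfl
  obtain ⟨l, hl⟩ := CommGroup.exists_apply_ne_one_of_hasEnoughRootsOfUnity A ℂ
    (a := ⟨t, htA⟩) (fun e => Involution.ne_one ht (congrArg Subtype.val e))
  have := Fintype.ofFinite A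
  have hmult : ∀ χ : IrrCharacter G, ∃ m : ℕ,
      (χ : G → ℂ) 1 - (χ : G → ℂ) t = (Fintype.card F : ℂ) * m := by
    intro χ
    obtain ⟨m, hm⟩ := Char.IsCharacter.classInner_nat
      (Char.IsCharacter.restrict (Char.IsIrrCharacter.isCharacter χ.2) A)
      (Char.isCharacter_of_hom ((Units.coeHom ℂ).comp l))
    refine ⟨m, ?_⟩
    have hsum : ∑ s, conj (((Units.coeHom ℂ).comp l) s) = 0 := by
      rw [← map_sum, sum_hom_units_eq_zero ((Units.coeHom ℂ).comp l) (fun e => hl (Units.ext
        (by simpa using DFunLike.congr_fun e (⟨t, htA⟩ : A)))), map_zero]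
    rw [← Finset.add_sum_erase _ _ (Finset.mem_univ (1 : A))] at hsum
    rw [← hm, ← hAcard, Char.card_mul_classInner,
      ← Finset.add_sum_erase _ _ (Finset.mem_univ (1 : A)),
      Finset.sum_congr rfl (g := fun s : A => (χ : G → ℂ) t * conj (((Units.coeHom ℂ).comp l) s))
        fun s hs => by
          obtain ⟨g, hg⟩ := isConj_iff.1 (hone (s : G) (Involution.orderOf_of_sq (hsq s s.2)
            fun e => (Finset.mem_erase.1 hs).1 (Subtype.ext e)))
          rw [← hg, irr_class χ t g], ← Finset.mul_sum]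
    simp only [map_one, mul_one, OneMemClass.coe_one] at hsum ⊢
    linear_combination -(χ : G → ℂ) t * hsum
  choose m hm using hmult
  have hm1 : ∀ χ : IrrCharacter G, (χ : G → ℂ) ≠ (fun _ => 1) → 1 ≤ m χ := by
    intro χ hne
    rw [Nat.one_le_iff_ne_zero]
    intro h0
    have h := hm χ
    rw [h0, Nat.cast_zero, mul_zero, sub_eq_zero] at h
    have htop : Codegree.kerSub χ = ⊤ :=
      (inferInstance : (Codegree.kerSub χ).Normal).eq_bot_or_eq_top.resolve_left fun e => by
        have : t ∈ Codegree.kerSub χ := h.symm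
        rw [e, Subgroup.mem_bot] at this
        exact Involution.ne_one ht this
    have hs := Char.classInner_irr_of_ne χ.2 Char.isIrrCharacter_one hne
    rw [classInner, mul_eq_zero, inv_eq_zero] at hs
    have h' := hs.resolve_left Blocks.card_ne_zero_C
    simp only [Pi.one_apply, map_one, mul_one] at h'
    rw [Finset.sum_congr rfl (g := fun _ => (χ : G → ℂ) 1)
      (fun g _ => Codegree.mem_kerSub.1 (htop ▸ Subgroup.mem_top g)), Finset.sum_const, nsmul_eq_mul,
      mul_eq_zero] at h'
    rcases h' with h' | h'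
    · exact absurd h' (by simp)
    · exact Char.IsIrrCharacter.apply_one_ne_zero χ.2 h'
  have hcard : Nat.card G = Fintype.card F * ((Fintype.card F + 1) * (Fintype.card F - 1)) := by
    have h := PSL2.card_psl_mul (F := F)
    rw [PSL2.gcd_two_of_char_two, one_mul, Nat.card_eq_fintype_card (α := F)] at h
    rw [← h]
    exact Nat.card_congr e.toEquiv
  -- the sum of squares
  have hsq2 : ∑ χ : IrrCharacter G, (m χ) ^ 2 = Fintype.card F := by
    have hti : t⁻¹ = t := inv_eq_of_mul_eq_one_right (Involution.mul_self ht)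
    have hreal : ∀ χ : IrrCharacter G, conj ((χ : G → ℂ) t) = (χ : G → ℂ) t := fun χ => by
      rw [conj_eq_inv, hti]
    have h11 := Char.column_orth (G := G) 1 1
    rw [if_pos (IsConj.refl _)] at h11
    have h1t := Char.column_orth (G := G) 1 t
    rw [if_neg fun h => Involution.ne_one ht (isConj_one_left.1 h.symm)] at h1t
    have htt := Char.column_orth (G := G) t t
    rw [if_pos (IsConj.refl _), hAcard] at htt
    have hc1 : Nat.card (Subgroup.centralizer ({1} : Set G)) = Nat.card G := by
      rw [show Subgroup.centralizer ({1} : Set G) = ⊤ from eq_top_iff.2 fun g _ =>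
        Subgroup.mem_centralizer_singleton_iff.2 (by rw [mul_one, one_mul]), Subgroup.card_top]
    rw [hc1, hcard] at h11
    have key : ((Fintype.card F ^ 2 * ∑ χ : IrrCharacter G, (m χ) ^ 2 : ℕ) : ℂ) =
        ((Fintype.card F ^ 2 * Fintype.card F : ℕ) : ℂ) := by
      push_cast at h11 htt ⊢
      rw [Finset.mul_sum, Finset.sum_congr rfl (g := fun χ : IrrCharacter G =>
        (χ : G → ℂ) 1 * conj ((χ : G → ℂ) 1) - 2 * ((χ : G → ℂ) 1 * conj ((χ : G → ℂ) t)) +
          (χ : G → ℂ) t * conj ((χ : G → ℂ) t)) fun χ _ => ?_, Finset.sum_add_distrib,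
        Finset.sum_sub_distrib, ← Finset.mul_sum, h11, h1t, htt]
      · rw [Nat.cast_sub Fintype.card_pos, Nat.cast_one]
        ring
      · rw [← mul_pow, ← hm, hreal, ← (exists_degree χ).1, map_natCast]
        ring
    exact Nat.eq_of_mul_eq_mul_left (pow_pos Fintype.card_pos 2) (Nat.cast_injective key)
  have hall : ∀ χ : IrrCharacter G, (χ : G → ℂ) ≠ (fun _ => 1) → m χ = 1 := by
    intro χ hne
    by_contra hχ
    have h2 : 2 ≤ m χ := by have := hm1 χ hne; omega
    have hnum : Fintype.card F ≤ (Finset.univ.erase (BrauerPairs.oneIrr G)).card := by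
      rw [Finset.card_erase_of_mem (Finset.mem_univ _), Finset.card_univ,
        ← Nat.card_eq_fintype_card (α := IrrCharacter G), Char.card_irr_eq_card_conjClasses]
      exact Nat.le_sub_one_of_lt (card_classes e)
    have hlt : ∑ θ ∈ Finset.univ.erase (BrauerPairs.oneIrr G), 1 <
        ∑ θ ∈ Finset.univ.erase (BrauerPairs.oneIrr G), (m θ) ^ 2 := by
      refine Finset.sum_lt_sum (fun θ hθ => Nat.one_le_pow _ _ (hm1 θ fun e =>
        (Finset.mem_erase.1 hθ).1 (Subtype.ext e))) ⟨χ, Finset.mem_erase.2 ⟨fun e => hne (by rw [e]; rfl),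
          Finset.mem_univ _⟩, ?_⟩
      nlinarith
    have hle : ∑ θ ∈ Finset.univ.erase (BrauerPairs.oneIrr G), (m θ) ^ 2 ≤ Fintype.card F := by
      rw [← hsq2]
      exact Finset.sum_le_sum_of_subset_of_nonneg (Finset.erase_subset _ _) fun _ _ _ => Nat.zero_le _
    rw [Finset.sum_const, smul_eq_mul, mul_one] at hlt
    omega
  intro χ _ hne
  rw [hm, hall χ hne, Nat.cast_one, mul_one]

end Cfsg.Agent.ConstDiff
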