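import Cfsg.Agent.Lib.ConstDiff.Basic
import Cfsg.Agent.Lib.CentralChar.Twist
import Cfsg.Agent.Lib.Char.Orth
import Cfsg.Agent.Lib.Codegree.Basic
import Cfsg.Agent.Lib.GLTwoChar.SLTable

/-!
# Degree restrictions (for S4514; owner: helper96)

* `not_trivial_on` : no non-principal character of the principal block is trivial on a normal subgroup of
  odd index covering `G` with `C(S)`
* `not_small` : with one class of involutions and elementary Sylow subgroup of order 8, no non-principal
  character of the principal block has degree at most 6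
* `sl_degree` : the non-trivial irreducible degrees of `SL(2,q)` are at least `(q - 1)/2`
-/

set_option autoImplicit false
set_option linter.unusedSectionVars false
set_option linter.style.haveILetI false

open scoped ComplexConjugate

namespace Cfsg.Agent.ConstDiff

open Cfsg Cfsg.Agent.Blocks

universe u

variable {G : Type u} [Group G] [Finite G] {M : Ideal AlgInt}

/-- A non-principal character of the principal block is not trivial on a normal subgroup `L` of odd index with
`L C(S) = G`. -/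
theorem not_trivial_on (hM : IsPModular 2 M) (S : Sylow 2 G) {L : Subgroup G} [L.Normal]
    (hodd : Odd L.index) (hcover : ∀ g : G, ∃ l ∈ L, ∃ c ∈ Subgroup.centralizer ((S : Subgroup G) : Set G),
      g = l * c)
    {χ : IrrCharacter G} (hχ : χ ∈ rest M G) (htriv : ∀ l ∈ L, (χ : G → ℂ) l = (χ : G → ℂ) 1) : False := by
  classical
  haveI : Fact (Nat.Prime 2) := ⟨Nat.prime_two⟩
  obtain ⟨hb, hne⟩ := mem_rest.1 hχ
  obtain ⟨ψ, hψ⟩ := CentralChar.exists_deflation L χ htriv
  have := Fintype.ofFinite (G ⧸ L)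
  set d := charDegree (χ : G → ℂ) with hd
  have hdc : (d : ℂ) = (χ : G → ℂ) 1 := (exists_degree χ).1
  have hψd : charDegree (ψ : G ⧸ L → ℂ) = d := by
    rw [hd, charDegree, charDegree, hψ 1, QuotientGroup.mk_one]
  have hdodd : Odd d := by
    refine hodd.of_dvd_nat ?_
    rw [← hψd, Subgroup.index_eq_card]
    exact charDegree_dvd_card ψ
  have hC : ∀ c ∈ Subgroup.centralizer ((S : Subgroup G) : Set G),
      MemLocalIdeal M ((χ : G → ℂ) c - 1) := by
    intro c hc
    set m := (Subgroup.centralizer ({c} : Set G)).index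
    have hm : ¬ 2 ∣ m := fun h => S.not_dvd_index (h.trans (Subgroup.index_dvd_of_le fun s hs =>
      Subgroup.mem_centralizer_singleton_iff.2 (Subgroup.mem_centralizer_iff.1 hc s hs)))
    have h1 : MemLocalIdeal M ((m : ℂ) * 1 * (1 : ℂ)⁻¹ - (m : ℂ) * (χ : G → ℂ) c * ((χ : G → ℂ) 1)⁻¹) :=
      hb c
    have hχc : MemLocalRing M ((χ : G → ℂ) c) :=
      memR_of_isIntegral hM (Char.IsCharacter.isIntegral (Char.IsIrrCharacter.isCharacter χ.2) _)
    have hd0 : (χ : G → ℂ) 1 ≠ 0 := Char.IsIrrCharacter.apply_one_ne_zero χ.2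
    -- `m (d - χ c) ∈ I`
    have h2 : MemLocalIdeal M ((m : ℂ) * ((χ : G → ℂ) c - (d : ℂ))) := by
      have := memI_neg (memI_mul_right hM h1 (memR_natCast hM d))
      convert this using 1
      rw [hdc]
      field_simp
      ring
    have h3 : MemLocalIdeal M (((m - 1 : ℕ) : ℂ) * ((χ : G → ℂ) c - (d : ℂ))) :=
      memI_mul_right hM ((memI_natCast hM).2 (Nat.Odd.sub_odd (Nat.not_even_iff_odd.1 fun h =>
        hm (even_iff_two_dvd.1 h)) odd_one).two_dvd) (memR_sub hM hχc (memR_natCast hM d))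
    have h4 : MemLocalIdeal M (((d - 1 : ℕ) : ℂ)) :=
      (memI_natCast hM).2 (Nat.Odd.sub_odd hdodd odd_one).two_dvd
    have hm1 : 1 ≤ m := Nat.one_le_iff_ne_zero.2 (Subgroup.index_ne_zero_of_finite)
    have := memI_add hM (memI_sub hM h2 h3) h4
    convert this using 1
    rw [Nat.cast_sub hm1, Nat.cast_sub hdodd.pos]
    push_cast
    ring
  have hall : ∀ y : G ⧸ L, MemLocalIdeal M ((ψ : G ⧸ L → ℂ) y - 1) := by
    intro y
    obtain ⟨g, rfl⟩ := QuotientGroup.mk_surjective y
    obtain ⟨l, hl, c, hc, rfl⟩ := hcover g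
    rw [← hψ, coe_apply_mul_eq (htriv l hl)]
    exact hC c hc
  have hne' : (ψ : G ⧸ L → ℂ) ≠ fun _ => 1 := fun e => hne (funext fun g => by rw [hψ g, e])
  have hsum : ∑ y : G ⧸ L, (ψ : G ⧸ L → ℂ) y = 0 := by
    have h := Char.classInner_irr_of_ne ψ.2 Char.isIrrCharacter_one hne'
    rw [classInner, mul_eq_zero, inv_eq_zero] at h
    have h' := h.resolve_left Blocks.card_ne_zero_C
    simpa using h'
  have h5 := memI_sum hM Finset.univ (fun y _ => hall y)
  rw [Finset.sum_sub_distrib, hsum, Finset.sum_const, Finset.card_univ, ← Nat.card_eq_fintype_card,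
    ← Subgroup.index_eq_card, nsmul_eq_mul, mul_one, zero_sub] at h5
  have h6 := memI_neg h5
  rw [neg_neg] at h6
  exact Nat.not_even_iff_odd.2 hodd (even_iff_two_dvd.2 ((memI_natCast hM).1 h6))

/-- Elementary Sylow subgroup of order 8, one class of involutions: degree at most 6 forces the involutions
into the kernel. -/
theorem value_eq_degree (S : Sylow 2 G) (hsq : ∀ a ∈ S, a * a = 1) (h8 : Nat.card (S : Subgroup G) = 8)
    {t : G} (hone : ∀ v : G, orderOf v = 2 → IsConj t v) (χ : IrrCharacter G)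
    (hd : charDegree (χ : G → ℂ) ≤ 6) : (χ : G → ℂ) t = (χ : G → ℂ) 1 := by
  classical
  haveI : Fact (Nat.Prime 2) := ⟨Nat.prime_two⟩
  have := Fintype.ofFinite (S : Subgroup G)
  letI : CommGroup (S : Subgroup G) :=
    { (inferInstance : Group (S : Subgroup G)) with
      mul_comm := fun a b => mul_comm_of_exponent_two (by
        refine (Nat.dvd_prime Nat.prime_two).1 (Monoid.exponent_dvd_of_forall_pow_eq_one fun a =>
          Subtype.ext (by simpa [pow_two] using hsq a a.2)) |>.resolve_left fun e => ?_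
        haveI := Monoid.exp_eq_one_iff.1 e
        rw [Nat.card_unique] at h8
        omega) a b }
  set c := (χ : G → ℂ) t
  have hres := Char.IsCharacter.restrict (Char.IsIrrCharacter.isCharacter χ.2) (S : Subgroup G)
  have hval : ∀ s : (S : Subgroup G), s ≠ 1 → (χ : G → ℂ) s = c := by
    intro s hs
    have ho : orderOf (s : G) = 2 :=
      Involution.orderOf_of_sq (hsq s s.2) fun e => hs (Subtype.ext e)
    obtain ⟨g, hg⟩ := isConj_iff.1 (hone s ho)
    rw [← hg, irr_class χ t g]
  have hcard : Fintype.card (S : Subgroup G) = 8 := by rw [← Nat.card_eq_fintype_card, h8]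
  have key : ∀ l : (S : Subgroup G) →* ℂ, ∃ n : ℕ,
      (n : ℂ) * 8 = (χ : G → ℂ) 1 + c * ((∑ s, conj (l s)) - 1) := by
    intro l
    obtain ⟨n, hn⟩ := Char.IsCharacter.classInner_nat hres (Char.isCharacter_of_hom l)
    refine ⟨n, ?_⟩
    rw [← hn, mul_comm, show (8 : ℂ) = (Nat.card (S : Subgroup G) : ℂ) by rw [h8]; norm_num,
      Char.card_mul_classInner, ← Finset.add_sum_erase _ _ (Finset.mem_univ (1 : (S : Subgroup G))),
      ← Finset.add_sum_erase _ (fun s => conj (l s)) (Finset.mem_univ (1 : (S : Subgroup G))),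
      Finset.sum_congr rfl (g := fun s => c * conj (l s))
        fun s hs => by rw [hval s (Finset.mem_erase.1 hs).1], ← Finset.mul_sum]
    simp
  obtain ⟨n₀, hn₀⟩ := key 1
  simp only [MonoidHom.one_apply, map_one, Finset.sum_const, Finset.card_univ, hcard, nsmul_eq_mul,
    mul_one] at hn₀
  obtain ⟨s₀, hs₀⟩ : ∃ s : (S : Subgroup G), s ≠ 1 := by
    by_contra h
    push Not at h
    haveI : Subsingleton (S : Subgroup G) := ⟨fun a b => (h a).trans (h b).symm⟩
    rw [Nat.card_unique] at h8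
    omega
  obtain ⟨l, hl⟩ := CommGroup.exists_apply_ne_one_of_hasEnoughRootsOfUnity (S : Subgroup G) ℂ hs₀
  obtain ⟨m, hm⟩ := key ((Units.coeHom ℂ).comp l)
  have hsum : ∑ s, conj (((Units.coeHom ℂ).comp l) s) = 0 := by
    rw [← map_sum, sum_hom_units_eq_zero ((Units.coeHom ℂ).comp l) (fun e => hl (Units.ext
      (DFunLike.congr_fun e s₀))), map_zero]
  rw [hsum] at hm
  obtain ⟨d, hd', -⟩ : ∃ d : ℕ, (d : ℂ) = (χ : G → ℂ) 1 ∧ d = charDegree (χ : G → ℂ) :=
    ⟨_, (exists_degree χ).1, rfl⟩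
  have hd7 : (n₀ + 7 * m : ℕ) = charDegree (χ : G → ℂ) := by
    have : ((n₀ + 7 * m : ℕ) : ℂ) = (charDegree (χ : G → ℂ) : ℂ) := by
      rw [(exists_degree χ).1]
      push_cast at hn₀ hm ⊢
      linear_combination hn₀ / 8 + 7 * hm / 8
    exact_mod_cast this
  have hm0 : m = 0 := by omega
  rw [hm0] at hm
  push_cast at hm
  linear_combination hm

/-- The non-trivial irreducible degrees of `SL(2,q)`. -/
theorem sl_degree {F : Type*} [Field F] [Fintype F]
    (θ : IrrCharacter (Matrix.SpecialLinearGroup (Fin 2) F))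
    (hne : (θ : Matrix.SpecialLinearGroup (Fin 2) F → ℂ) ≠ fun _ => 1) :
    Fintype.card F ≤ 2 * charDegree (θ : Matrix.SpecialLinearGroup (Fin 2) F → ℂ) + 1 := by
  classical
  have hc := Blocks.charDegree_cast θ
  set d := charDegree (θ : Matrix.SpecialLinearGroup (Fin 2) F → ℂ)
  open GLTwoChar in
  rcases sl_cases θ.2 with h | h | ⟨γ, -, h⟩ | ⟨γ, -, -, -, h⟩ | ⟨-, ⟨h, -⟩ | h⟩
  · exact absurd h hne
  · rw [h, stS_one, Nat.cast_inj] at hc
    omega
  · rw [h, psS_one, ← Nat.cast_add_one, Nat.cast_inj] at hc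
    omega
  · rw [← hc] at h
    have h' : 2 * d = Fintype.card F + 1 := by exact_mod_cast h
    omega
  · rw [← hc] at h
    have h' : (d : ℂ) + 1 = (Fintype.card F : ℂ) := by linear_combination h
    have h'' : d + 1 = Fintype.card F := by exact_mod_cast h'
    omega
  · rw [← hc] at h
    have h' : 2 * (d : ℂ) + 1 = (Fintype.card F : ℂ) := by linear_combination h
    have h'' : 2 * d + 1 = Fintype.card F := by exact_mod_cast h'
    omega

/-- A character of degree `d` not constant on the image of `SL(2,q)` gives `q ≤ 2 d + 1`. -/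
theorem card_field_le {F : Type*} [Field F] [Fintype F] (f : Matrix.SpecialLinearGroup (Fin 2) F →* G)
    (χ : IrrCharacter G) (hne : ∃ x, (χ : G → ℂ) (f x) ≠ (χ : G → ℂ) 1) :
    Fintype.card F ≤ 2 * charDegree (χ : G → ℂ) + 1 := by
  classical
  have := Fintype.ofFinite (Matrix.SpecialLinearGroup (Fin 2) F)
  have := Fintype.ofFinite (IrrCharacter (Matrix.SpecialLinearGroup (Fin 2) F))
  obtain ⟨n, ρ, hirr, hρ⟩ := χ.2
  set χ' : Matrix.SpecialLinearGroup (Fin 2) F → ℂ := fun x => (χ : G → ℂ) (f x) with hχ'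
  have hch : IsCharacter (Matrix.SpecialLinearGroup (Fin 2) F) χ' :=
    ⟨n, ρ.comp f, funext fun x => by rw [hχ', ← hρ]; rfl⟩
  choose m hm using fun θ : IrrCharacter (Matrix.SpecialLinearGroup (Fin 2) F) =>
    Char.IsCharacter.classInner_nat hch (Char.IsIrrCharacter.isCharacter θ.2)
  have hexp : χ' = ∑ θ : IrrCharacter (Matrix.SpecialLinearGroup (Fin 2) F),
      classInner χ' (θ : Matrix.SpecialLinearGroup (Fin 2) F → ℂ) • (θ : Matrix.SpecialLinearGroup (Fin 2) F → ℂ) :=
    Char.classFunction_eq_sum (Char.IsCharacter.isClassFunction hch)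
  by_contra hlt
  obtain ⟨x, hx⟩ := hne
  refine hx ?_
  have hbig : ∀ θ : IrrCharacter (Matrix.SpecialLinearGroup (Fin 2) F), m θ ≠ 0 →
      (θ : Matrix.SpecialLinearGroup (Fin 2) F → ℂ) = fun _ => 1 := by
    intro θ hθ
    by_contra hne'
    have hdeg := sl_degree θ hne'
    have h1 := congrFun hexp 1
    simp only [Finset.sum_apply, Pi.smul_apply, smul_eq_mul, hm] at h1
    simp only [hχ', map_one,
      ← fun θ : IrrCharacter (Matrix.SpecialLinearGroup (Fin 2) F) => (exists_degree θ).1,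
      ← (exists_degree χ).1, ← Nat.cast_mul, ← Nat.cast_sum, Nat.cast_inj] at h1
    have h2 := Finset.single_le_sum (f := fun θ : IrrCharacter (Matrix.SpecialLinearGroup (Fin 2) F) =>
      m θ * charDegree (θ : Matrix.SpecialLinearGroup (Fin 2) F → ℂ)) (fun _ _ => Nat.zero_le _) (Finset.mem_univ θ)
    rw [← h1] at h2
    have h3 := Nat.le_mul_of_pos_left (charDegree (θ : Matrix.SpecialLinearGroup (Fin 2) F → ℂ)) (Nat.pos_of_ne_zero hθ)
    omega
  have e : ∀ θ : IrrCharacter (Matrix.SpecialLinearGroup (Fin 2) F),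
      (m θ : ℂ) * (θ : Matrix.SpecialLinearGroup (Fin 2) F → ℂ) x = (m θ : ℂ) * (θ : Matrix.SpecialLinearGroup (Fin 2) F → ℂ) 1 := fun θ => by
    by_cases h : m θ = 0
    · simp [h]
    · rw [hbig θ h]
  have h1 := congrFun hexp x
  have h2 := congrFun hexp 1
  simp only [Finset.sum_apply, Pi.smul_apply, smul_eq_mul, hm] at h1 h2
  rw [Finset.sum_congr rfl fun θ _ => e θ, ← h2] at h1
  simpa [hχ'] using h1

end Cfsg.Agent.ConstDiff
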