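import Cfsg.Agent.EqLemmas
import Mathlib.Data.Complex.Basic
import Mathlib.RingTheory.IntegralClosure.IsIntegralClosure.Basic
import Mathlib.RingTheory.Polynomial.RationalRoot
import Mathlib.Tactic.LinearCombination

/-!
# The lattice of the principal 2-block at an involution (for S4514; owner: helper96)

Rows `a x ∈ ℤ³` with Gram matrix `2 I + J` : if `d x = k + a x • φ` are degrees orthogonal to the columns, some
degree is at most six.

* `exists_degree_le_six`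
-/

set_option autoImplicit false

namespace Cfsg.Agent.ConstDiff

variable {ι : Type*}

/-- `2 I + J`. -/
def gram (i j : Fin 3) : ℤ := if i = j then 3 else 1

theorem odd_colSum (s : Finset ι) (a : ι → Fin 3 → ℤ)
    (hG : ∀ i j, ∑ x ∈ s, a x i * a x j = gram i j) (i : Fin 3) : Odd (∑ x ∈ s, a x i) := by
  have h2 : ((∑ x ∈ s, a x i * a x i : ℤ) : ZMod 2) = ((∑ x ∈ s, a x i : ℤ) : ZMod 2) := by
    push_cast
    exact Finset.sum_congr rfl fun x _ => by
      generalize ((a x i : ℤ) : ZMod 2) = z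
      revert z; decide
  rw [hG i i] at h2
  have h3 : (gram i i) = 3 := by simp [gram]
  rw [h3, ZMod.intCast_eq_intCast_iff' 3 (∑ x ∈ s, a x i) 2] at h2
  rw [Int.odd_iff]
  omega

/-- Three odd integers: the sum of squares is at least three. -/
theorem three_le_sq {y : Fin 3 → ℤ} (h : ∀ i, Odd (y i)) : 3 ≤ y 0 * y 0 + y 1 * y 1 + y 2 * y 2 := by
  have h1 : ∀ i, 1 ≤ y i * y i := fun i => by
    obtain ⟨c, hc⟩ := h i
    have := mul_self_pos.2 (show y i ≠ 0 by omega)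
    omega
  linarith [h1 0, h1 1, h1 2]

/-- A nonzero vector has `4 |a|² - s² ≥ 3`. -/
theorem three_le_form {a b c : ℤ} (h : a ≠ 0 ∨ b ≠ 0 ∨ c ≠ 0) :
    3 ≤ 4 * (a * a + b * b + c * c) - (a + b + c) * (a + b + c) := by
  have e : 4 * (a * a + b * b + c * c) - (a + b + c) * (a + b + c)
      = (a * a + b * b + c * c) + (a - b) * (a - b) + (a - c) * (a - c) + (b - c) * (b - c) := by ring
  rw [e]
  rcases eq_or_ne a b with rfl | hab
  · rcases eq_or_ne a c with rfl | hac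
    · have : 1 ≤ a * a := by rcases h with h | h | h <;> nlinarith [Int.one_le_abs h, sq_abs a]
      nlinarith
    · have h1 : 1 ≤ (a - c) * (a - c) := by nlinarith [Int.one_le_abs (sub_ne_zero.2 hac), sq_abs (a - c)]
      have h2 : 1 ≤ a * a + a * a + c * c := by
        rcases h with h | h | h <;>
          nlinarith [Int.one_le_abs h, sq_abs a, sq_abs c, mul_self_nonneg a, mul_self_nonneg c]
      linarith [mul_self_nonneg (a - a)]
  · have h1 : 1 ≤ (a - b) * (a - b) := by nlinarith [Int.one_le_abs (sub_ne_zero.2 hab), sq_abs (a - b)]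
    have h3 : 1 ≤ (a - c) * (a - c) + (b - c) * (b - c) := by
      rcases eq_or_ne a c with rfl | hac
      · nlinarith [Int.one_le_abs (sub_ne_zero.2 hab.symm), sq_abs (b - a)]
      · nlinarith [Int.one_le_abs (sub_ne_zero.2 hac), sq_abs (a - c), mul_self_nonneg (b - c)]
    have h2 : 1 ≤ a * a + b * b + c * c := by
      rcases h with h | h | h <;> nlinarith [Int.one_le_abs h, sq_abs a, sq_abs b, sq_abs c]
    linarith

/-- `b = a • (1 - 4 Y)` is at most `-2` on some row. -/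
theorem exists_small_pos (s : Finset ι) (a : ι → Fin 3 → ℤ)
    (hG : ∀ i j, ∑ x ∈ s, a x i * a x j = gram i j) (hY : ∑ i, ∑ x ∈ s, a x i = 1) :
    ∃ x ∈ s, ∑ i, a x i * (1 - 4 * ∑ y ∈ s, a y i) ≤ -2 := by
  have h3 := three_le_sq (odd_colSum s a hG)
  by_contra hcon
  push Not at hcon
  have hrow : ∀ x ∈ s, 0 ≤ 3 * ∑ i, a x i * (1 - 4 * ∑ y ∈ s, a y i)
      + (4 * (a x 0 * a x 0 + a x 1 * a x 1 + a x 2 * a x 2)
        - (a x 0 + a x 1 + a x 2) * (a x 0 + a x 1 + a x 2)) := by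
    intro x hx
    by_cases h : a x 0 ≠ 0 ∨ a x 1 ≠ 0 ∨ a x 2 ≠ 0
    · linarith [three_le_form h, hcon x hx]
    · push Not at h
      obtain ⟨e0, e1, e2⟩ := h
      simp [Fin.sum_univ_three, e0, e1, e2]
  have hsum := Finset.sum_nonneg hrow
  simp only [Fin.sum_univ_three, mul_add, add_mul, mul_sub, mul_one, Finset.sum_add_distrib,
    Finset.sum_sub_distrib, ← Finset.mul_sum] at hsum hY
  simp only [← mul_assoc, ← Finset.sum_mul, ← Finset.mul_sum, hG, gram] at hsum h3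
  norm_num [Fin.ext_iff] at hsum
  linarith

/-- `b = a • (1 + 4 Y)` is at most `7` on some row. -/
theorem exists_small_neg (s : Finset ι) (a : ι → Fin 3 → ℤ)
    (hG : ∀ i j, ∑ x ∈ s, a x i * a x j = gram i j) (hY : ∑ i, ∑ x ∈ s, a x i = -1) :
    ∃ x ∈ s, ∑ i, a x i * (1 + 4 * ∑ y ∈ s, a y i) ≤ 7 := by
  have h3 := three_le_sq (odd_colSum s a hG)
  by_contra hcon
  push Not at hcon
  obtain ⟨Y0, hY0⟩ : ∃ n, ∑ y ∈ s, a y 0 = n := ⟨_, rfl⟩
  obtain ⟨Y1, hY1⟩ : ∃ n, ∑ y ∈ s, a y 1 = n := ⟨_, rfl⟩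
  obtain ⟨Y2, hY2⟩ : ∃ n, ∑ y ∈ s, a y 2 = n := ⟨_, rfl⟩
  simp only [Fin.sum_univ_three, hY0, hY1, hY2] at hcon hY h3
  obtain ⟨f0, hf0⟩ : ∃ n, 1 + 4 * Y0 = n := ⟨_, rfl⟩
  obtain ⟨f1, hf1⟩ : ∃ n, 1 + 4 * Y1 = n := ⟨_, rfl⟩
  obtain ⟨f2, hf2⟩ : ∃ n, 1 + 4 * Y2 = n := ⟨_, rfl⟩
  simp only [hf0, hf1, hf2] at hcon
  have hrow : ∀ x ∈ s, 0 ≤ f0 * f0 * (a x 0 * a x 0) + f1 * f1 * (a x 1 * a x 1)
      + f2 * f2 * (a x 2 * a x 2) + 2 * f0 * f1 * (a x 0 * a x 1) + 2 * f0 * f2 * (a x 0 * a x 2)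
      + 2 * f1 * f2 * (a x 1 * a x 2) - 8 * f0 * a x 0 - 8 * f1 * a x 1 - 8 * f2 * a x 2 := by
    intro x hx
    have hb : 8 ≤ a x 0 * f0 + a x 1 * f1 + a x 2 * f2 := by have := hcon x hx; omega
    nlinarith [mul_nonneg (by linarith : (0 : ℤ) ≤ a x 0 * f0 + a x 1 * f1 + a x 2 * f2)
      (by linarith : (0 : ℤ) ≤ a x 0 * f0 + a x 1 * f1 + a x 2 * f2 - 8)]
  have hsum := Finset.sum_nonneg hrow
  simp only [Finset.sum_add_distrib, Finset.sum_sub_distrib, ← Finset.mul_sum, hG, gram, hY0, hY1, hY2]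
    at hsum
  norm_num [Fin.ext_iff] at hsum
  subst hf0 hf1 hf2
  obtain rfl : Y2 = -1 - Y0 - Y1 := by omega
  nlinarith

/-- **Some degree is at most six.** -/
theorem exists_degree_le_six (s : Finset ι) (a : ι → Fin 3 → ℤ)
    (hG : ∀ i j, ∑ x ∈ s, a x i * a x j = gram i j) {k : ℂ} (hk : IsIntegral ℤ k)
    (φ : Fin 3 → ℂ) (hφ : ∑ i, φ i = -1) (d : ι → ℕ)
    (hd : ∀ x ∈ s, (d x : ℂ) = k + ∑ i, (a x i : ℂ) * φ i)
    (horth : ∀ i, ∑ x ∈ s, (d x : ℂ) * (a x i : ℂ) = 1) :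
    ∃ x ∈ s, d x ≤ 6 := by
  have key : ∀ i, 2 * φ i = 2 - k * ((∑ x ∈ s, a x i : ℤ) : ℂ) := by
    intro i
    have h1 : ∑ x ∈ s, (d x : ℂ) * (a x i : ℂ)
        = k * ((∑ x ∈ s, a x i : ℤ) : ℂ) + ∑ j, φ j * ((∑ x ∈ s, a x j * a x i : ℤ) : ℂ) := by
      push_cast
      rw [Finset.mul_sum, Finset.sum_congr rfl fun j _ => Finset.mul_sum s _ (φ j), Finset.sum_comm,
        ← Finset.sum_add_distrib]
      refine Finset.sum_congr rfl fun x hx => ?_
      rw [hd x hx, add_mul, Finset.sum_mul]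
      exact congrArg _ (Finset.sum_congr rfl fun j _ => by ring)
    rw [horth i] at h1
    simp only [hG, gram] at h1
    rw [Fin.sum_univ_three] at h1 hφ
    fin_cases i <;> simp at h1 ⊢ <;> linear_combination -h1 - hφ
  have h8 : k * ((∑ i, ∑ x ∈ s, a x i : ℤ) : ℂ) = 8 := by
    have h := key 0
    have h' := key 1
    have h'' := key 2
    rw [Fin.sum_univ_three] at hφ
    rw [Fin.sum_univ_three]
    push_cast at h h' h'' ⊢
    linear_combination h + h' + h'' - 2 * hφ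
  obtain ⟨S, hS⟩ : ∃ S, ∑ i, ∑ x ∈ s, a x i = S := ⟨_, rfl⟩
  rw [hS] at h8
  have hSodd : Odd S := by
    rw [← hS, Fin.sum_univ_three]
    exact ((odd_colSum s a hG 0).add_odd (odd_colSum s a hG 1)).add_odd (odd_colSum s a hG 2)
  have hS0 : (S : ℂ) ≠ 0 := by
    intro e
    rw [e, mul_zero] at h8
    norm_num at h8
  have hkq : k = ((8 / S : ℚ) : ℂ) := by
    push_cast
    rw [eq_div_iff hS0, h8]
  obtain ⟨m, hm⟩ : ∃ m : ℤ, k = (m : ℂ) := by
    rw [hkq] at hk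
    have hq : IsIntegral ℤ (8 / S : ℚ) :=
      (isIntegral_algebraMap_iff (B := ℂ) (algebraMap ℚ ℂ).injective).1 hk
    obtain ⟨m, hm⟩ := IsIntegrallyClosed.isIntegral_iff.1 hq
    exact ⟨m, by rw [hkq, ← hm]; simp⟩
  subst hm
  have hmS : m * S = 8 := by exact_mod_cast h8
  have hdb : ∀ (c : ℤ), (∀ i, φ i = ((1 - c * ∑ y ∈ s, a y i : ℤ) : ℂ)) →
      ∀ x ∈ s, (d x : ℤ) = m + ∑ i, a x i * (1 - c * ∑ y ∈ s, a y i) := by
    intro c hc x hx
    have := hd x hx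
    simp only [hc] at this
    exact_mod_cast this
  have hS1 : S = 1 ∨ S = -1 := by
    have hd8 : S.natAbs ∣ 8 := Int.natAbs_dvd_natAbs.2 (Dvd.intro_left m hmS)
    have ho : Odd S.natAbs := Int.natAbs_odd.2 hSodd
    have hle := Nat.le_of_dvd (by norm_num) hd8
    have : S.natAbs = 1 := by
      rw [Nat.odd_iff] at ho
      interval_cases h : S.natAbs <;> simp_all
    omega
  rcases hS1 with rfl | rfl
  · obtain rfl : m = 8 := by omega
    obtain ⟨x, hx, hb⟩ := exists_small_pos s a hG hS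
    refine ⟨x, hx, ?_⟩
    have := hdb 4 (fun i => by have := key i; push_cast at this ⊢; linear_combination this / 2) x hx
    omega
  · obtain rfl : m = -8 := by omega
    obtain ⟨x, hx, hb⟩ := exists_small_neg s a hG hS
    refine ⟨x, hx, ?_⟩
    have := hdb (-4) (fun i => by have := key i; push_cast at this ⊢; linear_combination this / 2) x hx
    simp only [neg_mul, sub_neg_eq_add] at this
    omega

end Cfsg.Agent.ConstDiff
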