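import Cfsg.Agent.Lib.ConstDiff.Local
import Cfsg.Agent.Lib.ConstDiff.Lattice
import Cfsg.Agent.Lib.HallOrders.Basic
import Cfsg.Agent.Lib.ZStar.KleinBlock
import Cfsg.Agent.S0111
import Cfsg.Agent.S0948

/-!
# Elementary Sylow subgroup of order 8, non-soluble centralizer (for S4514; owner: helper96)

* `klein_one_class` : Klein four Sylow subgroup and not soluble gives one class of involutions
* `exists_sgn` : the sign character of `C(t)`
* `exists_small_degree` : some non-principal character of the principal block has degree at most 6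
-/

set_option autoImplicit false
set_option linter.unusedSectionVars false
set_option linter.style.haveILetI false

open scoped ComplexConjugate

namespace Cfsg.Agent.ConstDiff

open Cfsg Cfsg.Agent.Blocks Cfsg.Agent.SecondMain

universe u

/-- A non-soluble group with Klein four Sylow subgroups has one class of involutions. -/
theorem klein_one_class {H : Type u} [Group H] [Finite H] (P : Sylow 2 H)
    (hP : IsKleinFour (P : Subgroup H)) (hns : ¬ Group.IsSolvable H) :
    ∀ s t : H, orderOf s = 2 → orderOf t = 2 → IsConj s t := by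
  haveI : Fact (Nat.Prime 2) := ⟨Nat.prime_two⟩
  haveI := hP
  have hcard : Nat.card (P : Subgroup H) = 4 := IsKleinFour.card_four
  have hno : ∀ N : Subgroup H, N.Normal → N.index ≠ 2 := by
    intro N hN h2
    haveI := hN
    haveI : Group.IsSolvable N := HallOrders.solvable_of_not_four_dvd fun h4 => by
      refine P.not_dvd_index ?_
      obtain ⟨c, hc⟩ := h4
      have e1 := (P : Subgroup H).card_mul_index
      rw [hcard, ← N.card_mul_index, hc, h2] at e1
      exact ⟨c, by omega⟩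
    haveI : Fact (Nat.Prime 2) := ⟨Nat.prime_two⟩
    haveI : IsCyclic (H ⧸ N) :=
      isCyclic_of_prime_card (p := 2) (by rw [← Subgroup.index_eq_card, h2])
    letI : CommGroup (H ⧸ N) := IsCyclic.commGroup
    exact hns (Group.isSolvable_of_ker_le_range N.subtype (QuotientGroup.mk' N) (by simp))
  have key : ∀ a b : H, a ∈ P → b ∈ P → orderOf a = 2 → orderOf b = 2 → IsConj a b := by
    intro a b ha hb ha2 hb2
    by_cases hab : a = b
    · rw [hab]
    have hle : Subgroup.zpowers b ≤ (P : Subgroup H) := Subgroup.zpowers_le.2 hb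
    have hi : (Subgroup.zpowers b).relIndex (P : Subgroup H) = 2 := by
      have h := Subgroup.card_mul_index ((Subgroup.zpowers b).subgroupOf (P : Subgroup H))
      rw [Nat.card_congr (Subgroup.subgroupOfEquivOfLe hle).toEquiv, Nat.card_zpowers, hb2, hcard] at h
      show ((Subgroup.zpowers b).subgroupOf (P : Subgroup H)).index = 2
      omega
    have hmem : ∀ x : H, x ∈ Subgroup.zpowers b → x = 1 ∨ x = b := fun x hx => by
      obtain ⟨i, rfl⟩ := Subgroup.mem_zpowers_iff.1 hx
      have hbb : b * b = 1 := KleinBlock.sq_eq_one P hb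
      rcases Int.even_or_odd' i with ⟨j, rfl | rfl⟩
      · exact Or.inl (by rw [zpow_mul, zpow_two, hbb, one_zpow])
      · exact Or.inr (by rw [zpow_add_one, zpow_mul, zpow_two, hbb, one_zpow, one_mul])
    rcases S0111.result P _ hle hi a ha2 ha (fun h => by
      rcases hmem a h with e | e
      · exact Involution.ne_one ha2 e
      · exact hab e) with ⟨N, hN, h2, -⟩ | ⟨g, hg⟩
    · exact absurd h2 (hno N hN)
    · rcases hmem _ hg with e | e
      · exact absurd (conj_eq_one_iff.1 e) (Involution.ne_one ha2)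
      · exact isConj_iff.2 ⟨g, e⟩
  have into : ∀ a : H, orderOf a = 2 → ∃ b ∈ P, orderOf b = 2 ∧ IsConj a b := by
    intro a ha
    obtain ⟨R, hR⟩ := (IsPGroup.of_card (n := 1) (by rw [Nat.card_zpowers, ha, pow_one]) :
      IsPGroup 2 (Subgroup.zpowers a)).exists_le_sylow
    obtain ⟨y, hy⟩ := MulAction.exists_smul_eq H R P
    refine ⟨y * a * y⁻¹, ?_, by rw [Involution.orderOf_conj, ha], isConj_iff.2 ⟨y, rfl⟩⟩
    rw [← hy]
    exact ⟨a, hR (Subgroup.mem_zpowers a), rfl⟩
  intro s t hs ht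
  obtain ⟨a, ha, ha2, hsa⟩ := into s hs
  obtain ⟨b, hb, hb2, htb⟩ := into t ht
  exact hsa.trans ((key a b ha hb ha2 hb2).trans htb.symm)

variable {G : Type u} [Group G] [Finite G] {M : Ideal AlgInt}

/-- A linear character of `C(t)` with value `-1` at `t`, when a Sylow subgroup is elementary. -/
theorem exists_sgn (S : Sylow 2 G) (hsq : ∀ a ∈ S, a * a = 1) {t : G} (ht : orderOf t = 2) (htS : t ∈ S)
    {tc : ↥(Subgroup.centralizer ({t} : Set G))} (htc : (tc : G) = t) :
    ∃ sg : ↥(Subgroup.centralizer ({t} : Set G)) →* ℂ, Sgn tc sg := by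
  haveI : Fact (Nat.Prime 2) := ⟨Nat.prime_two⟩
  have hcomm : ∀ a ∈ S, ∀ b ∈ S, a * b = b * a := fun a ha b hb => by
    have h := hsq _ ((S : Subgroup G).mul_mem ha hb)
    calc a * b = a⁻¹ * b⁻¹ := by
          rw [inv_eq_of_mul_eq_one_right (hsq a ha), inv_eq_of_mul_eq_one_right (hsq b hb)]
      _ = (b * a)⁻¹ := (mul_inv_rev b a).symm
      _ = b * a := inv_eq_of_mul_eq_one_right (hsq _ ((S : Subgroup G).mul_mem hb ha))
  have hSC : (S : Subgroup G) ≤ (Subgroup.centralizer ({t} : Set G)) := fun a ha =>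
    Subgroup.mem_centralizer_singleton_iff.2 (hcomm a ha t htS)
  set K := (S : Subgroup G).subgroupOf (Subgroup.centralizer ({t} : Set G)) with hKdef
  letI : CommGroup K :=
    { (inferInstance : Group K) with
      mul_comm := fun a b => Subtype.ext (Subtype.ext (hcomm _ a.2 _ b.2)) }
  have htK : tc ∈ K := by
    show (tc : G) ∈ (S : Subgroup G)
    rw [htc]; exact htS
  have htne : (⟨tc, htK⟩ : K) ≠ 1 := fun e => Involution.ne_one ht (by
    rw [← htc, show tc = 1 from congrArg Subtype.val e]; rfl)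
  obtain ⟨φ, hφ⟩ := CommGroup.exists_apply_ne_one_of_hasEnoughRootsOfUnity K ℂ htne
  have hKsq : ∀ a : K, φ a * φ a = 1 := fun a => by
    rw [← map_mul, show a * a = 1 from Subtype.ext (Subtype.ext (hsq _ a.2)), map_one]
  have hrange : ∀ r : φ.range, r * r = 1 := by
    rintro ⟨_, a, rfl⟩
    exact Subtype.ext (hKsq a)
  have hcent : ∀ g : (Subgroup.centralizer ({t} : Set G)), Commute tc g := fun g => Subtype.ext (by
    rw [Subgroup.coe_mul, Subgroup.coe_mul, htc]
    exact (Subgroup.mem_centralizer_singleton_iff.1 g.2).symm)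
  have htc2 : tc * tc = 1 := Subtype.ext (by rw [Subgroup.coe_mul, htc]; exact hsq t htS)
  haveI : K.FiniteIndex := ⟨K.index_ne_zero_of_finite⟩
  let V : (Subgroup.centralizer ({t} : Set G)) →* φ.range := MonoidHom.transfer φ.rangeRestrict
  have hodd : Odd K.index := Nat.not_even_iff_odd.1 fun h =>
    (S.subtype hSC).not_dvd_index (even_iff_two_dvd.1 h)
  have hVt : ((V tc : φ.range) : ℂˣ) = φ ⟨tc, htK⟩ := by
    have key : ∀ (k : ℕ) (g₀ : (Subgroup.centralizer ({t} : Set G))), g₀⁻¹ * tc ^ k * g₀ ∈ K → g₀⁻¹ * tc ^ k * g₀ = tc ^ k :=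
      fun k g₀ _ => by rw [mul_assoc, ((hcent g₀).pow_left k).eq, inv_mul_cancel_left]
    show ((MonoidHom.transfer φ.rangeRestrict tc : φ.range) : ℂˣ) = _
    rw [MonoidHom.transfer_eq_pow φ.rangeRestrict tc key, MonoidHom.coe_rangeRestrict]
    congr 1
    refine Subtype.ext ?_
    obtain ⟨l, hl⟩ := hodd
    show tc ^ K.index = tc
    rw [hl, pow_succ, pow_mul, pow_two, htc2, one_pow, one_mul]
  refine ⟨(Units.coeHom ℂ).comp (φ.range.subtype.comp V), ⟨hcent, htc2, ?_, fun g => ?_⟩⟩
  · show (((V tc : φ.range) : ℂˣ) : ℂ) = -1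
    rw [hVt]
    rcases mul_self_eq_one_iff.1 (show ((φ ⟨tc, htK⟩ : ℂˣ) : ℂ) * (φ ⟨tc, htK⟩ : ℂˣ) = 1 by
      rw [← Units.val_mul, hKsq, Units.val_one]) with e | e
    · exact absurd (Units.ext e) hφ
    · exact e
  · show (((V g : φ.range) : ℂˣ) : ℂ) = 1 ∨ (((V g : φ.range) : ℂˣ) : ℂ) = -1
    refine mul_self_eq_one_iff.1 ?_
    rw [← Units.val_mul, ← Subgroup.coe_mul, hrange, Subgroup.coe_one, Units.val_one]

/-- The quotient `C(t) ⧸ ⟨t⟩` has Klein four Sylow subgroups. -/
theorem exists_klein (S : Sylow 2 G) (hsq : ∀ a ∈ S, a * a = 1) (h8 : Nat.card (S : Subgroup G) = 8)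
    {t : G} (htS : t ∈ S)
    {tc : ↥(Subgroup.centralizer ({t} : Set G))} (htc : (tc : G) = t) (ht : orderOf t = 2)
    [(Subgroup.zpowers tc).Normal] :
    ∃ P : Sylow 2 (↥(Subgroup.centralizer ({t} : Set G)) ⧸ Subgroup.zpowers tc),
      IsKleinFour (P : Subgroup (↥(Subgroup.centralizer ({t} : Set G)) ⧸ Subgroup.zpowers tc)) := by
  haveI : Fact (Nat.Prime 2) := ⟨Nat.prime_two⟩
  have hSC : (S : Subgroup G) ≤ Subgroup.centralizer ({t} : Set G) := fun a ha =>
    Subgroup.mem_centralizer_singleton_iff.2 (by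
      calc a * t = a⁻¹ * t⁻¹ := by
            rw [inv_eq_of_mul_eq_one_right (hsq a ha), inv_eq_of_mul_eq_one_right (hsq t htS)]
        _ = (t * a)⁻¹ := (mul_inv_rev t a).symm
        _ = t * a := inv_eq_of_mul_eq_one_right (hsq _ ((S : Subgroup G).mul_mem htS ha)))
  set π := QuotientGroup.mk' (Subgroup.zpowers tc)
  let P := (S.subtype hSC).mapSurjective (f := π) (QuotientGroup.mk'_surjective _)
  refine ⟨P, ?_⟩
  have hP : (P : Subgroup (↥(Subgroup.centralizer ({t} : Set G)) ⧸ Subgroup.zpowers tc)) =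
      ((S : Subgroup G).subgroupOf (Subgroup.centralizer ({t} : Set G))).map π :=
    Sylow.coe_mapSurjective _ _
  have hsqP : ∀ a : (P : Subgroup (↥(Subgroup.centralizer ({t} : Set G)) ⧸ Subgroup.zpowers tc)),
      a ^ 2 = 1 := by
    rintro ⟨a, ha⟩
    rw [hP] at ha
    obtain ⟨b, hb, rfl⟩ := ha
    refine Subtype.ext ?_
    show π b ^ 2 = 1
    rw [pow_two, ← map_mul, show b * b = 1 from Subtype.ext (hsq _ hb), map_one]
  have hcard : Nat.card (P : Subgroup (↥(Subgroup.centralizer ({t} : Set G)) ⧸ Subgroup.zpowers tc)) = 4 := by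
    have hle : Subgroup.zpowers tc ≤ (S : Subgroup G).subgroupOf (Subgroup.centralizer ({t} : Set G)) :=
      Subgroup.zpowers_le.2 (show (tc : G) ∈ (S : Subgroup G) by rw [htc]; exact htS)
    have e1 := Subgroup.card_mul_index
      ((Subgroup.zpowers tc).subgroupOf ((S : Subgroup G).subgroupOf (Subgroup.centralizer ({t} : Set G))))
    rw [Nat.card_congr (Subgroup.subgroupOfEquivOfLe hle).toEquiv, Nat.card_zpowers,
      ← orderOf_injective (Subgroup.centralizer ({t} : Set G)).subtype Subtype.val_injective,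
      Nat.card_congr (Subgroup.subgroupOfEquivOfLe hSC).toEquiv, h8] at e1
    rw [hP]
    let f := π.subgroupMap ((S : Subgroup G).subgroupOf (Subgroup.centralizer ({t} : Set G)))
    have e2 : f.ker = (Subgroup.zpowers tc).subgroupOf
        ((S : Subgroup G).subgroupOf (Subgroup.centralizer ({t} : Set G))) := by
      ext x
      rw [MonoidHom.mem_ker, Subgroup.mem_subgroupOf, ← QuotientGroup.eq_one_iff, Subtype.ext_iff]
      rfl
    have e3 := Subgroup.index_ker f
    rw [MonoidHom.range_eq_top.2 (π.subgroupMap_surjective _), Subgroup.card_top, e2] at e3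
    rw [Subgroup.coe_subtype, htc, ht] at e1
    omega
  refine ⟨hcard, ?_⟩
  rcases (Nat.dvd_prime Nat.prime_two).1 (Monoid.exponent_dvd_of_forall_pow_eq_one hsqP) with e | e
  · haveI := Monoid.exp_eq_one_iff.1 e
    rw [Nat.card_unique] at hcard
    omega
  · exact e

/-- The signed non-principal characters of a principal block with Klein four defect group and one class of
involutions: the block, their sum and their independence on the 2-regular elements. -/
theorem klein_functions {H : Type u} [Group H] [Finite H] (hM : IsPModular 2 M) (P : Sylow 2 H)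
    (hP : IsKleinFour (P : Subgroup H)) (hone : ∀ s t : H, orderOf s = 2 → orderOf t = 2 → IsConj s t) :
    ∃ (ζ : Fin 3 → IrrCharacter H) (e : Fin 3 → ℤ),
      (∀ y : H, ¬ 2 ∣ orderOf y → ∑ i, (e i : ℂ) * (ζ i : H → ℂ) y = -1) ∧
      (∀ i, e i = 1 ∨ e i = -1) ∧
      (∀ F : IrrCharacter H → ℂ, ∑ᶠ ψ ∈ principalBlock M H, F ψ =
        F (BrauerPairs.oneIrr H) + ∑ i, F (ζ i)) ∧
      ∀ b : Fin 3 → ℂ, (∀ y : H, ¬ 2 ∣ orderOf y → ∑ i, b i * ((e i : ℂ) * (ζ i : H → ℂ) y) = 0) →
        b = 0 := by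
  classical
  haveI : Fact (Nat.Prime 2) := ⟨Nat.prime_two⟩
  haveI := hP
  have := Fintype.ofFinite H
  obtain ⟨z₂, z₃, z₄, ε, hε, h21, h31, h23, h24, h34, hB, hval, -, -, hd4, hsum⟩ :=
    S0948.result M hM P hP hone
  have hodd : ∀ y : H, ¬ 2 ∣ orderOf y → Odd (orderOf y) := fun y hy =>
    Nat.not_even_iff_odd.1 fun h => hy (even_iff_two_dvd.1 h)
  obtain ⟨z₀, hz₀⟩ := exists_prime_orderOf_dvd_card' (G := (P : Subgroup H)) 2
    (by rw [KleinBlock.card_sylow P]; norm_num)
  set z : H := (z₀ : H)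
  have hz : orderOf z = 2 := by rw [Subgroup.orderOf_coe, hz₀]
  obtain ⟨hv2, hv3, hv4⟩ := hval z hz
  have h41 : (z₄ : H → ℂ) ≠ fun _ => 1 := fun e => by
    rw [e] at hv4; norm_num at hv4
  let ζ : Fin 3 → IrrCharacter H := ![z₂, z₃, z₄]
  let e : Fin 3 → ℤ := ![1, ε, -1]
  have hεε : (ε : ℂ) * ε = 1 := by rcases hε with rfl | rfl <;> norm_num
  have he : ∀ i, (e i : ℂ) * (ζ i : H → ℂ) z = 1 := by
    intro i
    fin_cases i
    · simp [e, ζ, hv2]
    · simp [e, ζ, hv3, hεε]
    · simp [e, ζ, hv4]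
  have he1 : ∀ i, e i = 1 ∨ e i = -1 := by
    intro i; fin_cases i
    · simp [e]
    · simpa [e] using hε
    · simp [e]
  have hne1 : ∀ i, (ζ i : H → ℂ) ≠ fun _ => 1 := by
    intro i; fin_cases i <;> assumption
  have hinj : Function.Injective ζ := by
    intro i j hij
    fin_cases i <;> fin_cases j <;> simp_all [ζ]
  have hmem : ∀ ψ, ψ ∈ principalBlock M H ↔ ψ = BrauerPairs.oneIrr H ∨ ∃ i, ψ = ζ i := by
    intro ψ
    rw [hB]
    constructor
    · rintro (h | rfl | rfl | rfl)
      · exact Or.inl (Subtype.ext h)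
      · exact Or.inr ⟨0, rfl⟩
      · exact Or.inr ⟨1, rfl⟩
      · exact Or.inr ⟨2, rfl⟩
    · rintro (rfl | ⟨i, rfl⟩)
      · exact Or.inl rfl
      · fin_cases i <;> simp [ζ]
  refine ⟨ζ, e, fun y hy => ?_, he1, fun F => ?_, fun b hb => ?_⟩
  · simp only [Fin.sum_univ_three, e, ζ]
    have := hsum y (hodd y hy)
    simp only [Matrix.cons_val_zero, Matrix.cons_val_one, Matrix.cons_val, Int.cast_one, Int.cast_neg]
    linear_combination this
  · have hset : (Set.toFinite (principalBlock M H)).toFinset =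
        insert (BrauerPairs.oneIrr H) (Finset.univ.image ζ) := by
      ext ψ
      simp only [Set.Finite.mem_toFinset, hmem, Finset.mem_insert, Finset.mem_image, Finset.mem_univ,
        true_and, eq_comm]
    rw [finsum_mem_eq_finite_toFinset_sum _ (Set.toFinite _), hset, Finset.sum_insert,
      Finset.sum_image hinj.injOn]
    rw [Finset.mem_image]
    rintro ⟨i, -, h⟩
    exact hne1 i (congrArg Subtype.val h)
  · obtain ⟨K, hKodd, hKz, hKn, hKall, hcard⟩ := KleinBlock.exists_complement P hz z₀.2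
    obtain ⟨hsurj, hT⟩ := KleinBlock.singular P hz hone hKodd hKz hKn hKall hcard
    let f : H → ℂ := fun y => ∑ i, b i * ((e i : ℂ) * (ζ i : H → ℂ) y)
    have hsing : ∀ y, 2 ∣ orderOf y → f y = ∑ i, b i := by
      intro y hy
      obtain ⟨c, v, hv, rfl⟩ := hsurj y hy
      refine Finset.sum_congr rfl fun i _ => ?_
      rw [irr_class (ζ i) (z * v) c, ZStar.apply_mul_eq hM ⟨1, by rw [hz, pow_one]⟩ K hKodd hKz hKn hv
        ((hmem (ζ i)).2 (Or.inr ⟨i, rfl⟩)), he, mul_one]
    have horth1 : ∑ y : H, f y = 0 := by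
      simp only [f]
      rw [Finset.sum_comm]
      refine Finset.sum_eq_zero fun i _ => ?_
      have h := Char.classInner_irr_of_ne (ζ i).2 Char.isIrrCharacter_one (hne1 i)
      rw [classInner, mul_eq_zero, inv_eq_zero] at h
      have h' := h.resolve_left Blocks.card_ne_zero_C
      simp only [Pi.one_apply, map_one, mul_one] at h'
      simp only [← Finset.mul_sum, h', mul_zero]
    have hb0 : ∑ i, b i = 0 := by
      have h1 : ∑ y : H, f y = (Nat.card {g : H // 2 ∣ orderOf g} : ℂ) * ∑ i, b i := by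
        rw [← Finset.sum_filter_add_sum_filter_not Finset.univ (fun y => 2 ∣ orderOf y),
          Finset.sum_congr rfl (fun y hy => hsing y (Finset.mem_filter.1 hy).2),
          Finset.sum_congr rfl (g := fun _ => (0 : ℂ)) (fun y hy => hb y (Finset.mem_filter.1 hy).2),
          Finset.sum_const, Finset.sum_const_zero, add_zero, nsmul_eq_mul, Nat.card_eq_fintype_card,
          Fintype.card_subtype]
      rw [horth1] at h1
      exact (mul_eq_zero.1 h1.symm).resolve_left
        (Nat.cast_ne_zero.2 (Nat.card_pos_iff.2 ⟨⟨⟨z, by rw [hz]⟩⟩, inferInstance⟩).ne')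
    have hf : f = 0 := funext fun y => by
      by_cases hy : 2 ∣ orderOf y
      · rw [hsing y hy, hb0]; rfl
      · exact hb y hy
    funext j
    have hfun : f = ∑ i, (b i * (e i : ℂ)) • (ζ i : H → ℂ) := funext fun y => by
      simp [f, Finset.sum_apply, mul_assoc]
    have h := congrArg (fun g => classInner g (ζ j : H → ℂ)) hfun
    rw [hf, Char.classInner_zero_left, Char.classInner_sum_left] at h
    rw [Finset.sum_eq_single j, Char.classInner_smul_left, Char.classInner_irr_self (ζ j).2, mul_one] at h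
    · exact (mul_eq_zero.1 h.symm).resolve_right (Int.cast_ne_zero.2 (by rcases he1 j with e | e <;> omega))
    · intro i _ hij
      rw [Char.classInner_smul_left, Char.classInner_irr_of_ne (ζ i).2 (ζ j).2
        (fun e => hij (hinj (Subtype.ext e))), mul_zero]
    · exact fun hj => absurd (Finset.mem_univ j) hj

/-- **Elementary Sylow subgroup of order 8 and non-soluble centralizer: a small degree.** -/
theorem exists_small_degree (hM : IsPModular 2 M) (S : Sylow 2 G) (hsq : ∀ a ∈ S, a * a = 1)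
    (h8 : Nat.card (S : Subgroup G) = 8) {t w : G} (ht : orderOf t = 2) (htS : t ∈ S)
    (hw : ¬ 2 ∣ orderOf w) (hc : Commute t w) {k : ℂ} (hC : Const M (t * w) k)
    (hns : ¬ Group.IsSolvable ↥(Subgroup.centralizer ({t} : Set G))) :
    ∃ χ ∈ rest M G, charDegree (χ : G → ℂ) ≤ 6 := by
  classical
  haveI : Fact (Nat.Prime 2) := ⟨Nat.prime_two⟩
  obtain ⟨tc, htc⟩ : ∃ tc : ↥(Subgroup.centralizer ({t} : Set G)), (tc : G) = t :=
    ⟨⟨t, Subgroup.mem_centralizer_singleton_iff.2 rfl⟩, rfl⟩
  obtain ⟨sg, h⟩ := exists_sgn S hsq ht htS htc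
  haveI := h.normal
  obtain ⟨P, hP⟩ := exists_klein S hsq h8 htS htc ht
  have hnsQ : ¬ Group.IsSolvable (↥(Subgroup.centralizer ({t} : Set G)) ⧸ Subgroup.zpowers tc) := fun hs =>
    hns (by
      haveI := hs
      exact Group.isSolvable_of_ker_le_range (Subgroup.zpowers tc).subtype
        (QuotientGroup.mk' (Subgroup.zpowers tc)) (by simp))
  obtain ⟨ζ, e, hsum1, he1, hblock, hind⟩ := klein_functions hM P hP (klein_one_class P hP hnsQ)
  set π := QuotientGroup.mk' (Subgroup.zpowers tc) with hπ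
  let φ : Fin 3 → ↥(Subgroup.centralizer ({t} : Set G)) → ℂ := fun i x =>
    (e i : ℂ) * (ζ i : _ → ℂ) (π x)
  have hreg : ∀ x : ↥(Subgroup.centralizer ({t} : Set G)), ¬ 2 ∣ orderOf x → ¬ 2 ∣ orderOf (π x) :=
    fun x hx h2 => hx (h2.trans (orderOf_map_dvd π x))
  have hsumφ : ∀ x, ¬ 2 ∣ orderOf x → ∑ i, φ i x = -1 := fun x hx => hsum1 _ (hreg x hx)
  have hlift : ∀ b : Fin 3 → ℂ, (∀ x, ¬ 2 ∣ orderOf x → ∑ i, b i * φ i x = 0) → b = 0 := by
    intro b hb
    refine hind b fun y hy => ?_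
    obtain ⟨g, hg⟩ := QuotientGroup.mk'_surjective (Subgroup.zpowers tc) y
    obtain ⟨j, m, hm, hn⟩ := Nat.exists_eq_two_pow_mul_odd (orderOf_pos g).ne'
    -- the odd part of `g` has the same image
    subst hg
    obtain ⟨N, hN⟩ := exists_pow_eq_self_of_coprime (x := π g) (n := 2 ^ j)
      ((Nat.coprime_two_left.2 (Nat.not_even_iff_odd.1 fun h2 => hy (even_iff_two_dvd.1 h2))).pow_left j)
    have hgy : π (g ^ (2 ^ j * N)) = π g := by rw [map_pow, pow_mul, hN]
    rw [← hgy]
    refine hb _ fun h2 => ?_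
    have hd : orderOf (g ^ (2 ^ j * N)) ∣ m := orderOf_dvd_of_pow_eq_one (by
      rw [← pow_mul, mul_right_comm, ← hn, pow_mul, pow_orderOf_eq_one, one_pow])
    exact (Nat.not_even_iff_odd.2 hm) (even_iff_two_dvd.2 (h2.trans hd))
  have hcoef : ∀ χ : IrrCharacter G, ∃ a : Fin 3 → ℤ, χ ∈ rest M G →
      ∀ x : ↥(Subgroup.centralizer ({t} : Set G)), ¬ 2 ∣ orderOf x →
        (χ : G → ℂ) (t * (x : G)) = ∑ i, (a i : ℂ) * φ i x := by
    intro χ
    by_cases hχ : χ ∈ rest M G
    · obtain ⟨c, hc'⟩ := exists_coeff hM ht htc h (mem_rest.1 hχ).1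
      refine ⟨fun i => e i * c (ζ i) - c (BrauerPairs.oneIrr _), fun _ x hx => ?_⟩
      rw [hc' x hx, hblock]
      have hee : ∀ i, (e i : ℂ) * e i = 1 := fun i => by
        rcases he1 i with he | he <;> rw [he] <;> norm_num
      have e1 : ∀ i, ((e i * c (ζ i) - c (BrauerPairs.oneIrr _) : ℤ) : ℂ) * φ i x =
          (c (ζ i) : ℂ) * (ζ i : _ → ℂ) (π x) - (c (BrauerPairs.oneIrr _) : ℂ) * φ i x := fun i => by
        simp only [φ]
        push_cast
        linear_combination (c (ζ i) : ℂ) * (ζ i : _ → ℂ) (π x) * hee i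
      rw [Finset.sum_congr rfl fun i _ => e1 i, Finset.sum_sub_distrib, ← Finset.mul_sum, hsumφ x hx]
      simp only [BrauerPairs.oneIrr]
      ring
    · exact ⟨0, fun h' => absurd h' hχ⟩
  choose a ha using hcoef
  have horth : ∀ i, ∑ χ ∈ rest M G, (charDegree (χ : G → ℂ) : ℂ) * (a χ i : ℂ) = 1 := by
    have hb : (fun i => (∑ χ ∈ rest M G, (charDegree (χ : G → ℂ) : ℂ) * (a χ i : ℂ)) - 1) = 0 := by
      refine hlift _ fun x hx => ?_
      have h0 := colSum_eq_zero hM (BrauerPairs.isPBlock_principal (M := M)) (x := (1 : G)) (y := 1)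
        (x' := t) (y' := (x : G)) ⟨0, by simp⟩ ⟨1, by rw [ht]; rfl⟩ (by simp)
        (by rwa [Subgroup.orderOf_coe]) (Commute.one_left 1)
        (Subgroup.mem_centralizer_singleton_iff.1 x.2).symm
        (fun hc => Involution.ne_one ht (isConj_one_left.1 hc.symm))
      rw [mul_one, colSum_eq hM] at h0
      have e1 : ∀ χ ∈ rest M G, (χ : G → ℂ) 1 * conj ((χ : G → ℂ) (t * (x : G))) =
          conj (∑ i, (charDegree (χ : G → ℂ) : ℂ) * (a χ i : ℂ) * φ i x) := fun χ hχ => by
        rw [ha χ hχ x hx, map_sum, map_sum, Finset.mul_sum, ← (exists_degree χ).1]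
        refine Finset.sum_congr rfl fun i _ => ?_
        simp only [map_mul, map_natCast, mul_assoc]
      rw [Finset.sum_congr rfl e1, ← map_sum] at h0
      have h1 := congrArg conj h0
      simp only [map_add, map_one, Complex.conj_conj, map_zero] at h1
      rw [Finset.sum_comm] at h1
      simp only [sub_mul, one_mul, Finset.sum_sub_distrib, Finset.sum_mul]
      linear_combination h1 - hsumφ x hx
    exact fun i => sub_eq_zero.1 (congrFun hb i)
  have hgram : ∀ i j, ∑ χ ∈ rest M G, a χ i * a χ j = gram i j := by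
    let D : Fin 3 → Fin 3 → ℤ := fun i j => (∑ χ ∈ rest M G, a χ i * a χ j) - gram i j
    suffices hD : ∀ i j, (D i j : ℂ) = 0 from fun i j => sub_eq_zero.1 (Int.cast_eq_zero.1 (hD i j))
    have h2 : ∀ x y : ↥(Subgroup.centralizer ({t} : Set G)), ¬ 2 ∣ orderOf x → ¬ 2 ∣ orderOf y →
        ∑ i, (∑ j, (D i j : ℂ) * conj (φ j y)) * φ i x = 0 := by
      intro x y hx hy
      have h0 := colSum_invol hM ht h hx hy
      rw [colSum_eq hM] at h0
      have e1 : ∀ χ ∈ rest M G, (χ : G → ℂ) (t * (x : G)) * conj ((χ : G → ℂ) (t * (y : G))) =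
          ∑ i, ∑ j, (a χ i * a χ j : ℤ) * (φ i x * conj (φ j y)) := fun χ hχ => by
        rw [ha χ hχ x hx, ha χ hχ y hy, map_sum, Finset.sum_mul_sum]
        refine Finset.sum_congr rfl fun i _ => Finset.sum_congr rfl fun j _ => ?_
        simp only [map_mul, map_intCast]
        push_cast
        ring
      have e2 : colSum (principalBlock M _) (π x) (π y) = 1 + ∑ i, φ i x * conj (φ i y) := by
        rw [colSum, hblock]
        have hee : ∀ i, (e i : ℂ) * e i = 1 := fun i => by
          rcases he1 i with he | he <;> rw [he] <;> norm_num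
        simp only [φ, map_mul, map_intCast, BrauerPairs.oneIrr, map_one, mul_one]
        congr 1
        refine Finset.sum_congr rfl fun i _ => ?_
        linear_combination -((ζ i : _ → ℂ) (π x) * conj ((ζ i : _ → ℂ) (π y))) * hee i
      rw [Finset.sum_congr rfl e1, e2] at h0
      have hx1 := hsumφ x hx
      have hy1 := congrArg conj (hsumφ y hy)
      rw [map_sum, map_neg, map_one] at hy1
      simp only [Fin.sum_univ_three, D, gram, Finset.sum_add_distrib, ← Finset.sum_mul, Fin.isValue,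
        ↓reduceIte, Fin.reduceEq, ← Int.cast_sum] at h0 hx1 hy1 ⊢
      push_cast at h0 ⊢
      linear_combination h0 + hy1 - (conj (φ 0 y) + conj (φ 1 y) + conj (φ 2 y)) * hx1
    intro i j
    have h3 : ∀ y, ¬ 2 ∣ orderOf y → ∑ j, (D i j : ℂ) * conj (φ j y) = 0 := fun y hy =>
      congrFun (hlift _ fun x hx => h2 x y hx hy) i
    exact congrFun (hlift _ fun x hx => by
      have := congrArg conj (h3 x hx)
      simpa [map_sum] using this) j
  -- the element `w`
  obtain ⟨w', hw'⟩ : ∃ w' : ↥(Subgroup.centralizer ({t} : Set G)), (w' : G) = w :=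
    ⟨⟨w, Subgroup.mem_centralizer_singleton_iff.2 hc.symm.eq⟩, rfl⟩
  have hwo : ¬ 2 ∣ orderOf w' := by rwa [← Subgroup.orderOf_coe, hw']
  have hd : ∀ χ ∈ rest M G, (charDegree (χ : G → ℂ) : ℂ) = k + ∑ i, (a χ i : ℂ) * φ i w' := by
    intro χ hχ
    rw [← ha χ hχ w' hwo, hw', (exists_degree χ).1]
    linear_combination hC χ (mem_rest.1 hχ).1 (mem_rest.1 hχ).2
  have hk : IsIntegral ℤ k := by
    obtain ⟨χ, hχ⟩ : (rest M G).Nonempty := by
      rw [Finset.nonempty_iff_ne_empty]
      intro h0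
      have := horth 0
      rw [h0, Finset.sum_empty] at this
      exact zero_ne_one this
    rw [← hC χ (mem_rest.1 hχ).1 (mem_rest.1 hχ).2, ← (exists_degree χ).1]
    exact (isIntegral_algebraMap (R := ℤ) (x := (charDegree (χ : G → ℂ) : ℤ))).sub
      (Char.IsCharacter.isIntegral (Char.IsIrrCharacter.isCharacter χ.2) _)
  exact exists_degree_le_six (rest M G) a hgram hk (fun i => φ i w') (hsumφ w' hwo) _ hd horth

end Cfsg.Agent.ConstDiff
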