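import Cfsg.Agent.Lib.ConstDiff.Basic
import Cfsg.Agent.Lib.BlocksNormal.Deflate
import Cfsg.Agent.Lib.Char.Inner
import Cfsg.Agent.Lib.Char.Orth
import Cfsg.Agent.S0936

/-!
# A central involution outside the kernel of a sign character (for S4514; owner: helper96)

* `Sgn t sg` : `t` central of order two, `sg : C →* ℂ` with values `±1`, `sg t = -1`
* `sum_block` : the principal block of `C` is two copies of the principal block of `C ⧸ ⟨t⟩`
* `exists_coeff` : integral coefficients for `x ↦ χ (t * x)`, `x` of odd order in `C(t)`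
* `colSum_invol` : the products of the columns in the section of `t`
-/

set_option autoImplicit false
set_option linter.unusedSectionVars false
set_option linter.style.haveILetI false

open scoped ComplexConjugate

namespace Cfsg.Agent.ConstDiff

open Cfsg Cfsg.Agent.Blocks Cfsg.Agent.SecondMain

universe u

variable {C : Type u} [Group C] [Finite C] {M : Ideal AlgInt}

/-- A central involution with a sign character not trivial on it. -/
structure Sgn (t : C) (sg : C →* ℂ) : Prop where
  central : ∀ g : C, Commute t g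
  sq : t * t = 1
  val : sg t = -1
  pm : ∀ g : C, sg g = 1 ∨ sg g = -1

namespace Sgn

variable {t : C} {sg : C →* ℂ} (h : Sgn t sg)
include h

theorem normal : (Subgroup.zpowers t).Normal := ⟨fun n hn g => by
  obtain ⟨i, rfl⟩ := Subgroup.mem_zpowers_iff.1 hn
  rw [((h.central g).zpow_left i).eq.symm, mul_inv_cancel_right]
  exact hn⟩

theorem mem_iff {x : C} : x ∈ Subgroup.zpowers t ↔ x = 1 ∨ x = t := by
  constructor
  · intro hx
    obtain ⟨i, rfl⟩ := Subgroup.mem_zpowers_iff.1 hx
    rcases Int.even_or_odd' i with ⟨j, rfl | rfl⟩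
    · exact Or.inl (by rw [zpow_mul, zpow_two, h.sq, one_zpow])
    · exact Or.inr (by rw [zpow_add_one, zpow_mul, zpow_two, h.sq, one_zpow, one_mul])
  · rintro (rfl | rfl)
    · exact one_mem _
    · exact Subgroup.mem_zpowers x

theorem sg_regular {x : C} (hx : ¬ 2 ∣ orderOf x) : sg x = 1 := by
  rcases h.pm x with e | e
  · exact e
  · have h1 : sg x ^ orderOf x = 1 := by rw [← map_pow, pow_orderOf_eq_one, map_one]
    rw [e, (Nat.odd_iff.2 (Nat.two_dvd_ne_zero.1 hx)).neg_one_pow] at h1
    norm_num at h1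

theorem sg_mul (g : C) : sg (t * g) = -sg g := by rw [map_mul, h.val, neg_one_mul]

theorem conj_ne (g c : C) : c * g * c⁻¹ ≠ t * g := fun e => by
  have h1 : sg (t * g) = sg g := by
    rw [← e, map_mul, map_mul, mul_comm (sg c), mul_assoc, ← map_mul, mul_inv_cancel, map_one, mul_one]
  rw [h.sg_mul] at h1
  rcases h.pm g with e' | e' <;> rw [e'] at h1 <;> norm_num at h1

variable [(Subgroup.zpowers t).Normal]

/-- The quotient map. -/
local notation "π" => QuotientGroup.mk' (Subgroup.zpowers t)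

theorem map_t : π t = 1 := (QuotientGroup.eq_one_iff t).2 (Subgroup.mem_zpowers t)

theorem centralizer_comap (g : C) :
    (Subgroup.centralizer ({π g} : Set (C ⧸ Subgroup.zpowers t))).comap π =
      Subgroup.centralizer ({g} : Set C) := by
  ext c
  rw [Subgroup.mem_comap, Subgroup.mem_centralizer_singleton_iff, Subgroup.mem_centralizer_singleton_iff]
  refine ⟨fun e => ?_, fun e => by rw [← map_mul, ← map_mul, e]⟩
  have h1 : c * g * c⁻¹ * g⁻¹ ∈ Subgroup.zpowers t := (QuotientGroup.eq_one_iff _).1 (by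
    show π (c * g * c⁻¹ * g⁻¹) = 1
    simp only [map_mul, map_inv, e, mul_inv_cancel_right, mul_inv_cancel])
  rcases h.mem_iff.1 h1 with e1 | e1
  · exact mul_inv_eq_iff_eq_mul.1 (mul_inv_eq_one.1 e1)
  · exact absurd (mul_inv_eq_iff_eq_mul.1 e1) (h.conj_ne g c)

theorem centralChar_infl (φ : C ⧸ Subgroup.zpowers t → ℂ) (g : C) :
    centralChar (fun x => φ (π x)) g = centralChar φ (π g) := by
  simp only [centralChar, map_one]
  rw [← h.centralizer_comap g, Subgroup.index_comap_of_surjective _ (QuotientGroup.mk'_surjective _)]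

/-- Inflation. -/
noncomputable def pos (_ : Sgn t sg) (ψ : IrrCharacter (C ⧸ Subgroup.zpowers t)) : IrrCharacter C :=
  ⟨fun g => (ψ : _ → ℂ) (π g),
    Char.IsIrrCharacter.comp_surjective ψ.2 π (QuotientGroup.mk'_surjective _)⟩

/-- Inflation times the sign. -/
noncomputable def neg (h : Sgn t sg) (ψ : IrrCharacter (C ⧸ Subgroup.zpowers t)) : IrrCharacter C :=
  ⟨fun g => (ψ : _ → ℂ) (π g) * sg g, by
    have := Fintype.ofFinite C
    exact Char.IsIrrCharacter.mul_linear (h.pos ψ).2 sg⟩

theorem pos_apply (ψ : IrrCharacter (C ⧸ Subgroup.zpowers t)) (g : C) :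
    (h.pos ψ : C → ℂ) g = (ψ : _ → ℂ) (π g) := rfl

theorem neg_apply (ψ : IrrCharacter (C ⧸ Subgroup.zpowers t)) (g : C) :
    (h.neg ψ : C → ℂ) g = (ψ : _ → ℂ) (π g) * sg g := rfl

theorem sg_memI (hM : IsPModular 2 M) (g : C) : MemLocalIdeal M (sg g - 1) := by
  rcases h.pm g with e | e <;> rw [e]
  · rw [sub_self]; exact memI_zero hM
  · have := memI_neg ((memI_natCast hM).2 (dvd_refl 2))
    norm_num at this ⊢
    exact this

theorem centralChar_neg (hM : IsPModular 2 M) (ψ : IrrCharacter (C ⧸ Subgroup.zpowers t)) (g : C) :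
    MemLocalIdeal M (centralChar (h.neg ψ : C → ℂ) g - centralChar (h.pos ψ : C → ℂ) g) := by
  have e : centralChar (h.neg ψ : C → ℂ) g = centralChar (h.pos ψ : C → ℂ) g * sg g := by
    simp only [centralChar, neg_apply, pos_apply, map_one, mul_one]
    ring
  rw [e, ← mul_sub_one]
  exact memI_mul_left hM (memR_of_isIntegral hM (isIntegral_centralChar (h.pos ψ) g)) (h.sg_memI hM g)

theorem pos_mem_iff (_hM : IsPModular 2 M) (ψ : IrrCharacter (C ⧸ Subgroup.zpowers t)) :
    h.pos ψ ∈ principalBlock M C ↔ ψ ∈ principalBlock M (C ⧸ Subgroup.zpowers t) := by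
  have e : ∀ g : C, centralChar (fun _ : C => (1 : ℂ)) g
      = centralChar (fun _ : C ⧸ Subgroup.zpowers t => (1 : ℂ)) (π g) := fun g =>
    h.centralChar_infl (fun _ => 1) g
  constructor
  · intro hb y
    obtain ⟨g, rfl⟩ := QuotientGroup.mk'_surjective (Subgroup.zpowers t) y
    rw [← e, ← h.centralChar_infl]
    exact hb g
  · intro hb g
    show MemLocalIdeal M (centralChar (fun _ : C => (1 : ℂ)) g - centralChar (fun x => (ψ : _ → ℂ) (π x)) g)
    rw [e, h.centralChar_infl]
    exact hb _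

theorem neg_mem_iff (hM : IsPModular 2 M) (ψ : IrrCharacter (C ⧸ Subgroup.zpowers t)) :
    h.neg ψ ∈ principalBlock M C ↔ ψ ∈ principalBlock M (C ⧸ Subgroup.zpowers t) := by
  rw [← h.pos_mem_iff hM]
  exact ⟨fun hb g => memI_sub_trans hM (hb g) (h.centralChar_neg hM ψ g),
    fun hb g => memI_sub_trans hM (hb g) (memI_sub_comm (h.centralChar_neg hM ψ g))⟩

theorem apply_t_mul (η : IrrCharacter C) :
    ∃ s : ℂ, (s = 1 ∨ s = -1) ∧ ∀ g, (η : C → ℂ) (t * g) = s * (η : C → ℂ) g := by
  classical
  have := Fintype.ofFinite C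
  obtain ⟨n, ρ, hirr, hρ⟩ := η.2
  haveI := hirr
  let f : C → ℂ := fun x => if x = t then 1 else 0
  have hf : IsClassFunction C f := fun g c => by
    have hiff : c * g * c⁻¹ = t ↔ g = t := by
      constructor
      · intro e
        have e1 : g = c⁻¹ * t * c := by rw [← e]; group
        rw [e1, mul_assoc, (h.central c).eq, inv_mul_cancel_left]
      · rintro rfl
        rw [(h.central c).eq.symm, mul_inv_cancel_right]
    simp only [f, hiff]
  have hop : Char.groupSumOp ρ f = ρ t := by simp [Char.groupSumOp, f]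
  have h1 := Char.groupSumOp_eq_smul ρ hf
  rw [hop] at h1
  obtain ⟨s, hs⟩ : ∃ s : ℂ, ρ t = s • 1 := ⟨_, h1⟩
  have hs2 : s * s = 1 := by
    have e1 : ρ t * ρ t = 1 := by rw [← map_mul, h.sq, map_one]
    rw [hs, smul_mul_smul_comm, one_mul] at e1
    have hne : (η : C → ℂ) 1 ≠ 0 := Char.IsIrrCharacter.apply_one_ne_zero η.2
    rw [← hρ, Representation.char_one] at hne
    have e2 := congrArg (LinearMap.trace ℂ _) e1
    rw [map_smul, LinearMap.trace_one, smul_eq_mul] at e2
    exact (mul_eq_right₀ hne).1 e2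
  refine ⟨s, mul_self_eq_one_iff.1 hs2, fun g => ?_⟩
  rw [← hρ]
  show LinearMap.trace ℂ _ (ρ (t * g)) = s * LinearMap.trace ℂ _ (ρ g)
  rw [map_mul, hs, smul_mul_assoc, one_mul, map_smul, smul_eq_mul]

theorem exists_infl (η : IrrCharacter C) :
    ∃ ψ, η = h.pos ψ ∨ η = h.neg ψ := by
  obtain ⟨s, hs | hs, hη⟩ := h.apply_t_mul η
  · obtain ⟨ψ, hψ⟩ := CentralChar.exists_deflation (Subgroup.zpowers t) η fun n hn => by
      rcases h.mem_iff.1 hn with rfl | rfl
      · rfl
      · simpa [hs] using hη 1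
    exact ⟨ψ, Or.inl (Subtype.ext (funext hψ))⟩
  · let η' : IrrCharacter C := ⟨_, by
      have := Fintype.ofFinite C
      exact Char.IsIrrCharacter.mul_linear η.2 sg⟩
    obtain ⟨ψ, hψ⟩ := CentralChar.exists_deflation (Subgroup.zpowers t) η' fun n hn => by
      rcases h.mem_iff.1 hn with rfl | rfl
      · rfl
      · show (η : C → ℂ) n * sg n = (η : C → ℂ) 1 * sg 1
        have := hη 1
        rw [mul_one] at this
        rw [this, hs, h.val, map_one]
        ring
    refine ⟨ψ, Or.inr (Subtype.ext (funext fun g => ?_))⟩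
    rw [h.neg_apply, ← show (η' : C → ℂ) g = (ψ : _ → ℂ) (π g) from hψ g]
    show (η : C → ℂ) g = (η : C → ℂ) g * sg g * sg g
    rcases h.pm g with e | e <;> rw [e] <;> ring

theorem pos_injective : Function.Injective h.pos := fun a b e =>
  Subtype.ext (funext fun y => by
    obtain ⟨g, rfl⟩ := QuotientGroup.mk'_surjective (Subgroup.zpowers t) y
    exact congrFun (congrArg Subtype.val e) g)

theorem neg_injective : Function.Injective h.neg := fun a b e =>
  Subtype.ext (funext fun y => by
    obtain ⟨g, rfl⟩ := QuotientGroup.mk'_surjective (Subgroup.zpowers t) y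
    have := congrFun (congrArg Subtype.val e) g
    rw [h.neg_apply, h.neg_apply] at this
    refine mul_right_cancel₀ (fun e0 => ?_) this
    rcases h.pm g with e' | e' <;> rw [e'] at e0 <;> norm_num at e0)

theorem pos_ne_neg (a b : IrrCharacter (C ⧸ Subgroup.zpowers t)) : h.pos a ≠ h.neg b := fun e => by
  have h1 := congrFun (congrArg Subtype.val e) 1
  have h2 := congrFun (congrArg Subtype.val e) t
  rw [h.pos_apply, h.neg_apply, map_one, map_one, mul_one] at h1
  rw [h.pos_apply, h.neg_apply, h.map_t, h.val, h1] at h2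
  exact Char.IsIrrCharacter.apply_one_ne_zero b.2 (by linear_combination h2 / 2)

/-- The principal block is two copies of the principal block of the quotient. -/
theorem sum_block (hM : IsPModular 2 M) {A : Type*} [AddCommMonoid A] (F : IrrCharacter C → A) :
    ∑ᶠ η ∈ principalBlock M C, F η =
      ∑ᶠ ψ ∈ principalBlock M (C ⧸ Subgroup.zpowers t), (F (h.pos ψ) + F (h.neg ψ)) := by
  classical
  have hfin := Set.toFinite (principalBlock M (C ⧸ Subgroup.zpowers t))
  have hset : (Set.toFinite (principalBlock M C)).toFinset =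
      hfin.toFinset.image h.pos ∪ hfin.toFinset.image h.neg := by
    ext η
    simp only [Set.Finite.mem_toFinset, Finset.mem_union, Finset.mem_image]
    constructor
    · intro hη
      obtain ⟨ψ, rfl | rfl⟩ := h.exists_infl η
      · exact Or.inl ⟨ψ, (h.pos_mem_iff hM ψ).1 hη, rfl⟩
      · exact Or.inr ⟨ψ, (h.neg_mem_iff hM ψ).1 hη, rfl⟩
    · rintro (⟨ψ, hψ, rfl⟩ | ⟨ψ, hψ, rfl⟩)
      · exact (h.pos_mem_iff hM ψ).2 hψ
      · exact (h.neg_mem_iff hM ψ).2 hψ
  rw [finsum_mem_eq_finite_toFinset_sum _ (Set.toFinite _), finsum_mem_eq_finite_toFinset_sum _ hfin, hset,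
    Finset.sum_union, Finset.sum_image (h.pos_injective.injOn), Finset.sum_image (h.neg_injective.injOn),
    Finset.sum_add_distrib]
  rw [Finset.disjoint_left]
  intro η h1 h2
  obtain ⟨a, -, rfl⟩ := Finset.mem_image.1 h1
  obtain ⟨b, -, e⟩ := Finset.mem_image.1 h2
  exact h.pos_ne_neg a b e.symm

end Sgn

variable {G : Type u} [Group G] [Finite G]

/-- The blocks of `C(x)` inducing the principal block. -/
theorem inducedSet_principal (hM : IsPModular 2 M) {x : G} (hx : ∃ j, orderOf x = 2 ^ j)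
    {H : Subgroup G} (hH : ∀ g, g ∈ H ↔ Commute x g) :
    inducedSet M H (principalBlock M G) = {principalBlock M H} := by
  haveI : Fact (Nat.Prime 2) := ⟨Nat.prime_two⟩
  ext b
  show IsInducedBlock M H b (principalBlock M G) ↔ b = principalBlock M H
  refine ⟨fun hb => (S0936.result 2 M hM H b ⟨_, hb⟩).1 hb, ?_⟩
  rintro rfl
  exact (S0936.result 2 M hM H _
    (exists_induced_centralizer hM hx hH (BrauerPairs.isPBlock_principal (M := M)))).2 rfl

variable {t : G} {sg : ↥(Subgroup.centralizer ({t} : Set G)) →* ℂ}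
  {tc : ↥(Subgroup.centralizer ({t} : Set G))} [(Subgroup.zpowers tc).Normal]

/-- Integral coefficients of `x ↦ χ (t * x)`. -/
theorem exists_coeff (hM : IsPModular 2 M) (ht : orderOf t = 2) (htc : (tc : G) = t) (h : Sgn tc sg)
    {χ : IrrCharacter G} (hχ : χ ∈ principalBlock M G) :
    ∃ c : IrrCharacter (↥(Subgroup.centralizer ({t} : Set G)) ⧸ Subgroup.zpowers tc) → ℤ,
      ∀ x : ↥(Subgroup.centralizer ({t} : Set G)), ¬ 2 ∣ orderOf x →
        (χ : G → ℂ) (t * (x : G)) =
          ∑ᶠ ψ ∈ principalBlock M (↥(Subgroup.centralizer ({t} : Set G)) ⧸ Subgroup.zpowers tc),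
            (c ψ : ℂ) * (ψ : _ → ℂ) (QuotientGroup.mk' (Subgroup.zpowers tc) x) := by
  classical
  have := Fintype.ofFinite ↥(Subgroup.centralizer ({t} : Set G))
  have hH : ∀ g, g ∈ Subgroup.centralizer ({t} : Set G) ↔ Commute t g := fun g =>
    Subgroup.mem_centralizer_singleton_iff.trans ⟨fun e => e.symm, fun e => e.symm⟩
  have hx2 : ∃ j, orderOf t = 2 ^ j := ⟨1, by rw [ht]; rfl⟩
  set θ : ↥(Subgroup.centralizer ({t} : Set G)) → ℂ := fun c => (χ : G → ℂ) (t * (c : G))
  have hcoef : ∀ η : IrrCharacter ↥(Subgroup.centralizer ({t} : Set G)), ∃ m : ℤ, classInner θ (η : _ → ℂ) = (m : ℂ) := by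
    intro η
    obtain ⟨s, hs, hη⟩ := h.apply_t_mul η
    obtain ⟨n, hn⟩ := Char.IsCharacter.classInner_nat
      (Char.IsCharacter.restrict (Char.IsIrrCharacter.isCharacter χ.2) _)
      (Char.IsIrrCharacter.isCharacter η.2)
    refine ⟨if s = 1 then (n : ℤ) else -(n : ℤ), ?_⟩
    have e : classInner θ (η : _ → ℂ) = conj s * classInner (fun c : ↥(Subgroup.centralizer ({t} : Set G)) => (χ : G → ℂ) c) (η : _ → ℂ) := by
      rw [classInner, classInner, mul_left_comm]
      congr 1
      rw [Finset.mul_sum]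
      refine Fintype.sum_equiv (Equiv.mulLeft tc) _ _ fun c => ?_
      show (χ : G → ℂ) (t * (c : G)) * conj ((η : _ → ℂ) c) =
        conj s * ((χ : G → ℂ) ((tc * c : ↥(Subgroup.centralizer ({t} : Set G))) : G) * conj ((η : _ → ℂ) (tc * c)))
      rw [hη, Subgroup.coe_mul, htc, map_mul]
      rcases hs with rfl | rfl <;> simp
    rw [e, hn]
    rcases hs with rfl | rfl
    · simp
    · norm_num
  choose m hm using hcoef
  refine ⟨fun ψ => m (h.pos ψ) + m (h.neg ψ), fun x hx => ?_⟩
  rw [← sum_induced_shift_of_mem hM hx2 hH (BrauerPairs.isPBlock_principal (M := M)) hχ (s := x) hx,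
    inducedSet_principal hM hx2 hH, finsum_mem_singleton, blockPart_apply, h.sum_block hM]
  refine finsum_mem_congr rfl fun ψ _ => ?_
  rw [hm, hm, h.pos_apply, h.neg_apply, h.sg_regular hx]
  push_cast
  ring

/-- The products of the columns in the section of `t`. -/
theorem colSum_invol (hM : IsPModular 2 M) (ht : orderOf t = 2) (h : Sgn tc sg)
    {x y : ↥(Subgroup.centralizer ({t} : Set G))} (hx : ¬ 2 ∣ orderOf x) (hy : ¬ 2 ∣ orderOf y) :
    colSum (principalBlock M G) (t * (x : G)) (t * (y : G)) =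
      2 * colSum (principalBlock M (↥(Subgroup.centralizer ({t} : Set G)) ⧸ Subgroup.zpowers tc))
        (QuotientGroup.mk' (Subgroup.zpowers tc) x) (QuotientGroup.mk' (Subgroup.zpowers tc) y) := by
  classical
  have hH : ∀ g, g ∈ Subgroup.centralizer ({t} : Set G) ↔ Commute t g := fun g =>
    Subgroup.mem_centralizer_singleton_iff.trans ⟨fun e => e.symm, fun e => e.symm⟩
  have hx2 : ∃ j, orderOf t = 2 ^ j := ⟨1, by rw [ht]; rfl⟩
  rw [colSum_eq_sum hM (BrauerPairs.isPBlock_principal (M := M)) hx2 hH hx hy,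
    inducedSet_principal hM hx2 hH, finsum_mem_singleton]
  simp only [colSum]
  rw [h.sum_block hM, finsum_mem_eq_finite_toFinset_sum _ (Set.toFinite _),
    finsum_mem_eq_finite_toFinset_sum _ (Set.toFinite _), Finset.mul_sum]
  refine Finset.sum_congr rfl fun ψ _ => ?_
  rw [h.pos_apply, h.neg_apply, h.pos_apply, h.neg_apply, h.sg_regular hx, h.sg_regular hy]
  simp only [mul_one]
  ring

end Cfsg.Agent.ConstDiff
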