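import Cfsg.Agent.Lib.ConstDiff.Eight
import Cfsg.Agent.Lib.ConstDiff.Degree
import Cfsg.Agent.Lib.AbelianSylow.SimpleCases
import Cfsg.Agent.Lib.PSL2.SolCount
import Cfsg.Agent.Lib.PSL2.Existence
import Mathlib.FieldTheory.Finite.GaloisField
import Cfsg.Agent.Lib.AbelianSylowAut.PSLTwo
import Cfsg.Agent.Lib.AbelianSylowTwo.Simple
import Cfsg.Agent.S3188
import Cfsg.Agent.S0252
import Cfsg.Agent.S0253

/-!
# The groups with constant degree minus value (for S4514; owner: helper96)

* `Setting` : trivial core, `u = t * w`, one class of involutions, exponent two Sylow subgroups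
* `forward` : such a group has order two or is `L₂(2^n)`, and then `u² = 1`
-/

set_option autoImplicit false
set_option linter.unusedSectionVars false
set_option linter.style.haveILetI false

namespace Cfsg.Agent.ConstDiff

open Cfsg Subgroup

universe u

local notation "PSLt" => Matrix.ProjectiveSpecialLinearGroup (Fin 2)

variable {G : Type u} [Group G] [Finite G] {M : Ideal AlgInt}

/-- The situation after the parity step. -/
structure Setting (M : Ideal AlgInt) (t w : G) (k : ℂ) : Prop where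
  pmod : IsPModular 2 M
  core : oddCore G = ⊥
  const : Const M (t * w) k
  ne : t * w ≠ 1
  inv : orderOf t = 2
  odd : ¬ 2 ∣ orderOf w
  comm : Commute t w
  one : ∀ v : G, orderOf v = 2 → IsConj t v
  sq : ∀ S : Sylow 2 G, ∀ a ∈ S, a * a = 1

theorem exists_setting (hM : IsPModular 2 M) (hO : oddCore G = ⊥) {u : G} {k : ℂ} (hC : Const M u k)
    (hu : u ≠ 1) : ∃ t w, u = t * w ∧ Setting M t w k := by
  haveI : Fact (Nat.Prime 2) := ⟨Nat.prime_two⟩
  obtain ⟨x, y, hu', hxz, hyz, hx, hy⟩ := Transfer.exists_pPart_mul (p := 2) u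
  have hy' : ¬ 2 ∣ orderOf y := fun h => Nat.prime_two.coprime_iff_not_dvd.1 hy.symm h
  have hc : Commute x y := by
    obtain ⟨i, hi⟩ := mem_zpowers_iff.1 hxz
    obtain ⟨j, hj⟩ := mem_zpowers_iff.1 hyz
    rw [← hi, ← hj]
    exact (Commute.refl u).zpow_zpow i j
  subst hu'
  have hconj : ∀ v : G, (∃ j, orderOf v = 2 ^ j) → v ≠ 1 → IsConj x v := fun v hv hv1 =>
    isConj_two_part hM hO hC hu hx hy' hc hv hv1
  have h2 : 2 ∣ Nat.card G := by
    by_contra h
    have htop : (⊤ : Subgroup G) ≤ oddCore G := Cores.le_pPrimeCore inferInstance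
      (Nat.coprime_comm.1 (Nat.prime_two.coprime_iff_not_dvd.2 (by rwa [card_top])))
    rw [hO] at htop
    exact hu (mem_bot.1 (htop (mem_top _)))
  obtain ⟨v, hv⟩ := exists_prime_orderOf_dvd_card' 2 h2
  have hxv := hconj v ⟨1, by rw [hv]; rfl⟩ (Involution.ne_one hv)
  obtain ⟨c, hcv⟩ := isConj_iff.1 hxv
  have hx2 : orderOf x = 2 := by rw [← Involution.orderOf_conj c x, hcv, hv]
  refine ⟨x, y, rfl, ⟨hM, hO, hC, hu, hx2, hy', hc, fun w hw => hconj w ⟨1, by rw [hw]; rfl⟩
    (Involution.ne_one hw), fun S a ha => ?_⟩⟩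
  by_cases ha1 : a = 1
  · rw [ha1, one_mul]
  obtain ⟨j, hj⟩ := IsPGroup.iff_orderOf.1 S.isPGroup' ⟨a, ha⟩
  rw [orderOf_mk] at hj
  obtain ⟨d, hd⟩ := isConj_iff.1 (hconj a ⟨j, hj⟩ ha1)
  rw [← hd, show d * x * d⁻¹ * (d * x * d⁻¹) = d * (x * x) * d⁻¹ by group, Involution.mul_self hx2]
  group

/-- With trivial 2-core an abelian normal subgroup contains no involution. -/
theorem eq_one_of_abelian_normal {H : Type u} [Group H] [Finite H] (h2 : pCore 2 H = ⊥) {Z : Subgroup H}
    (hZn : Z.Normal) (hZc : ∀ a ∈ Z, ∀ b ∈ Z, a * b = b * a) {a : H} (ha : a ∈ Z) (haa : a * a = 1) :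
    a = 1 := by
  let P : Subgroup H :=
    { carrier := {x | x ∈ Z ∧ x * x = 1}
      one_mem' := ⟨Z.one_mem, one_mul 1⟩
      mul_mem' := fun {x y} hx hy => ⟨Z.mul_mem hx.1 hy.1, by
        rw [mul_assoc, ← mul_assoc y, ← hZc x hx.1 y hy.1, mul_assoc x, hy.2, mul_one, hx.2]⟩
      inv_mem' := fun {x} hx => ⟨Z.inv_mem hx.1, by rw [← mul_inv_rev, hx.2, inv_one]⟩ }
  have hPn : P.Normal := ⟨fun x hx g => ⟨hZn.conj_mem x hx.1 g, by
    rw [show g * x * g⁻¹ * (g * x * g⁻¹) = g * (x * x) * g⁻¹ by group, hx.2]; group⟩⟩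
  have hP2 : IsPGroup 2 P := fun x => ⟨1, Subtype.ext (by
    rw [pow_one, SubmonoidClass.coe_pow, pow_two]; exact x.2.2)⟩
  have hle := Cores.le_pCore hPn hP2
  rw [h2] at hle
  exact mem_bot.1 (hle ⟨ha, haa⟩)

theorem exists_sylow_mem' {t : G} (ht : orderOf t = 2) : ∃ P : Sylow 2 G, t ∈ (P : Subgroup G) := by
  haveI : Fact (Nat.Prime 2) := ⟨Nat.prime_two⟩
  obtain ⟨P, hP⟩ := (IsPGroup.of_card (n := 1) (by rw [Nat.card_zpowers, ht, pow_one]) :
    IsPGroup 2 (zpowers t)).exists_le_sylow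
  exact ⟨P, hP (mem_zpowers t)⟩

/-- The 2-part of `L₂(q)`, `q ≡ 3, 5 (mod 8)`. -/
theorem psl_two_part {H : Type u} [Group H] [Finite H] {F : Type} [Field F] [Fintype F]
    (hq : Fintype.card F % 8 = 3 ∨ Fintype.card F % 8 = 5) (e : H ≃* PSLt F) :
    4 ∣ Nat.card H ∧ ¬ 8 ∣ Nat.card H := by
  have hc := PSL2.card_psl_mul (F := F)
  rw [Nat.card_eq_fintype_card (α := F), ← Nat.card_congr e.toEquiv] at hc
  obtain ⟨m, hm⟩ : Odd (Fintype.card F) := Nat.odd_iff.2 (by omega)
  have hg : Nat.gcd 2 (Fintype.card F - 1) = 2 := Nat.gcd_eq_left ⟨m, by omega⟩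
  rw [hg] at hc
  obtain ⟨r, hr, he⟩ : ∃ r, r % 2 = 1 ∧ Nat.card H = 4 * r := by
    obtain ⟨q, hq'⟩ : ∃ q, Fintype.card F = 8 * q + 3 ∨ Fintype.card F = 8 * q + 5 :=
      ⟨Fintype.card F / 8, by omega⟩
    rcases hq' with e | e <;> rw [e] at hc
    · rw [show 8 * q + 3 - 1 = 2 * (4 * q + 1) by omega,
        show (8 * q + 3) * ((8 * q + 3 + 1) * (2 * (4 * q + 1))) =
          8 * ((8 * q + 3) * ((2 * q + 1) * (4 * q + 1))) by ring] at hc
      exact ⟨(8 * q + 3) * ((2 * q + 1) * (4 * q + 1)), by simp [Nat.add_mod, Nat.mul_mod], by omega⟩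
    · rw [show 8 * q + 5 - 1 = 4 * (2 * q + 1) by omega,
        show (8 * q + 5) * ((8 * q + 5 + 1) * (4 * (2 * q + 1))) =
          8 * ((8 * q + 5) * ((4 * q + 3) * (2 * q + 1))) by ring] at hc
      exact ⟨(8 * q + 5) * ((4 * q + 3) * (2 * q + 1)), by simp [Nat.add_mod, Nat.mul_mod], by omega⟩
  exact ⟨⟨r, he⟩, fun h => by omega⟩

variable {t w : G} {k : ℂ}

namespace Setting

variable (h : Setting M t w k)
include h

/-- A non-trivial normal subgroup contains all involutions. -/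
theorem inv_mem {N : Subgroup G} (hN : N.Normal) (hne : N ≠ ⊥) {v : G} (hv : orderOf v = 2) : v ∈ N := by
  haveI : Fact (Nat.Prime 2) := ⟨Nat.prime_two⟩
  obtain ⟨a, ha⟩ := exists_prime_orderOf_dvd_card' 2
    (AbelianSylowTwo.even_of_normal_ne_bot h.core hN hne)
  rw [← orderOf_coe] at ha
  obtain ⟨c, hc⟩ := isConj_iff.1 ((h.one _ ha).symm.trans (h.one v hv))
  rw [← hc]
  exact hN.conj_mem _ a.2 c

theorem sylow_le {N : Subgroup G} (hN : N.Normal) (hne : N ≠ ⊥) (S : Sylow 2 G) :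
    (S : Subgroup G) ≤ N := fun a ha => by
  by_cases ha1 : a = 1
  · rw [ha1]; exact N.one_mem
  · exact h.inv_mem hN hne (Involution.orderOf_of_sq (h.sq S a ha) ha1)

theorem sylow_comm (S : Sylow 2 G) : IsMulCommutative (S : Subgroup G) :=
  ⟨⟨fun a b => Subtype.ext (by
    have hab := h.sq S _ ((S : Subgroup G).mul_mem a.2 b.2)
    show (a : G) * b = b * a
    calc (a : G) * b = ((a : G) * b)⁻¹ := (inv_eq_of_mul_eq_one_right hab).symm
      _ = (b : G) * a := by rw [mul_inv_rev, inv_eq_of_mul_eq_one_right (h.sq S _ b.2),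
        inv_eq_of_mul_eq_one_right (h.sq S _ a.2)])⟩⟩

/-- A non-trivial 2-core means order two. -/
theorem card_two (h2 : pCore 2 G ≠ ⊥) : Nat.card G = 2 := by
  haveI : Fact (Nat.Prime 2) := ⟨Nat.prime_two⟩
  obtain ⟨S⟩ : Nonempty (Sylow 2 G) := inferInstance
  have hle := h.sylow_le (by infer_instance : (pCore 2 G).Normal) h2 S
  have heq : pCore 2 G = (S : Subgroup G) := S.3 (Cores.isPGroup_pCore 2 G) hle
  haveI hSn : (S : Subgroup G).Normal := heq ▸ (inferInstance : (pCore 2 G).Normal)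
  have hcent : centralizer ((S : Subgroup G) : Set G) = ⊤ :=
    eq_top_of_centralizer_le h.pmod h.core h.const h.ne S (h.sylow_comm S) le_rfl
  have hNC : normalizer ((S : Subgroup G) : Set G) ≤ centralizer ((S : Subgroup G) : Set G) := by
    rw [hcent]; exact le_top
  have hker : (MonoidHom.transferSylow S hNC).ker = ⊥ := by
    have hle' : (MonoidHom.transferSylow S hNC).ker ≤ oddCore G := Cores.le_pPrimeCore inferInstance
      (Nat.coprime_comm.1 (Nat.prime_two.coprime_iff_not_dvd.2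
        (MonoidHom.not_dvd_card_ker_transferSylow S hNC)))
    rwa [h.core, le_bot_iff] at hle'
  have hcompl := MonoidHom.ker_transferSylow_isComplement' S hNC
  rw [hker, isComplement'_bot_left] at hcompl
  have hall : ∀ g : G, g = 1 ∨ g = t := by
    intro g
    by_cases hg : g = 1
    · exact Or.inl hg
    refine Or.inr ?_
    obtain ⟨c, hc⟩ := isConj_iff.1 (h.one g (Involution.orderOf_of_sq (h.sq S g (show g ∈ (S : Subgroup G) from hcompl ▸ mem_top g)) hg))
    rw [← hc, (mem_centralizer_iff.1 (hcent ▸ mem_top c) t (hcompl ▸ mem_top t)).symm, mul_inv_cancel_right]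
  refine Nat.card_eq_two_iff.2 ⟨1, t, (Involution.ne_one h.inv).symm, Set.eq_univ_iff_forall.2 fun g => ?_⟩
  rcases hall g with rfl | rfl <;> simp

/-- The socle is simple. -/
theorem exists_socle (h2 : pCore 2 G = ⊥) :
    ∃ (L : Subgroup G) (_ : L.Normal), IsSimpleGroup L ∧ ¬ IsMulCommutative L ∧
      (∀ S : Sylow 2 G, (S : Subgroup G) ≤ L) ∧ t ∈ L ∧ centralizer (L : Set G) = ⊥ ∧ Odd L.index := by
  haveI : Fact (Nat.Prime 2) := ⟨Nat.prime_two⟩
  haveI : Nontrivial G := ⟨⟨t, 1, Involution.ne_one h.inv⟩⟩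
  obtain ⟨L, hLn, hL0, -, hmin⟩ := Solvable.exists_minimal_normal (N := (⊤ : Subgroup G)) top_ne_bot
  haveI := hLn
  obtain ⟨hOL, hO2L⟩ := AbelianSylowTwo.cores_of_normal h.core h2 L
  have htL : t ∈ L := h.inv_mem hLn hL0 h.inv
  have hna : ¬ IsMulCommutative L := fun hc => Involution.ne_one h.inv (congrArg Subtype.val
    (eq_one_of_abelian_normal hO2L (Z := (⊤ : Subgroup L)) inferInstance
      (fun a _ b _ => hc.is_comm.comm a b) (a := ⟨t, htL⟩) (mem_top _)
      (Subtype.ext (Involution.mul_self h.inv))))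
  haveI : Nontrivial L := (nontrivial_iff_ne_bot L).2 hL0
  have hsimp : IsSimpleGroup L := by
    refine ⟨fun K hK => or_iff_not_imp_left.2 fun hK0 => ?_⟩
    haveI := hK
    obtain ⟨K₀, hK₀n, hK₀0, hK₀K, hK₀min⟩ := Solvable.exists_minimal_normal hK0
    haveI := hK₀n
    refine eq_top_iff.2 (le_trans ?_ hK₀K)
    by_cases hinv : (K₀.map L.subtype).Normal
    · rcases hmin _ hinv (map_subtype_le K₀) with h' | h'
      · exact absurd ((map_eq_bot_iff_of_injective _ L.subtype_injective).1 h') hK₀0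
      · intro x _
        obtain ⟨y, hy, e⟩ := h'.ge x.2
        exact L.subtype_injective e ▸ hy
    exfalso
    have hdisj : ∀ g : G, K₀.map (MulAut.conjNormal g : L ≃* L).toMonoidHom ≠ K₀ →
        K₀.map (MulAut.conjNormal g : L ≃* L).toMonoidHom ⊓ K₀ = ⊥ := by
      intro g hg
      haveI : (K₀.map (MulAut.conjNormal g : L ≃* L).toMonoidHom).Normal :=
        hK₀n.map _ (MulAut.conjNormal g : L ≃* L).surjective
      refine (hK₀min _ inferInstance inf_le_right).resolve_right fun h' => hg ?_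
      exact (eq_of_le_of_card_ge (inf_eq_right.1 h')
        (card_map_of_injective (MulAut.conjNormal g : L ≃* L).injective).le).symm
    have hcomm : ∀ g : G, K₀.map (MulAut.conjNormal g : L ≃* L).toMonoidHom ≠ K₀ →
        ∀ x ∈ K₀.map (MulAut.conjNormal g : L ≃* L).toMonoidHom, ∀ z ∈ K₀, Commute x z := fun g hg x hx z hz =>
      commute_of_normal_of_disjoint _ _ (hK₀n.map _ (MulAut.conjNormal g : L ≃* L).surjective) hK₀n
        (disjoint_iff.2 (hdisj g hg)) x z hx hz
    obtain ⟨g, hg⟩ : ∃ g : G, K₀.map (MulAut.conjNormal g : L ≃* L).toMonoidHom ≠ K₀ := by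
      by_contra hcon
      push Not at hcon
      refine hinv ⟨?_⟩
      rintro _ ⟨y, hy, rfl⟩ g
      exact ⟨_, (hcon g).le (mem_map_of_mem _ hy), MulAut.conjNormal_apply g y⟩
    obtain ⟨a, ha⟩ := exists_prime_orderOf_dvd_card' 2
      (AbelianSylowTwo.even_of_normal_ne_bot hOL hK₀n hK₀0)
    rw [← orderOf_coe] at ha
    set b : L := MulAut.conjNormal g (a : L) with hb
    have hbK : b ∈ K₀.map (MulAut.conjNormal g : L ≃* L).toMonoidHom := mem_map_of_mem _ a.2
    have hb2 : orderOf b = 2 := by rw [hb, MulEquiv.orderOf_eq, ha]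
    have hba : Commute b (a : L) := hcomm g hg b hbK a a.2
    have hab2 : orderOf ((a : L) * b) = 2 := by
      refine Involution.orderOf_of_sq ?_ fun e => ?_
      · rw [hba.mul_mul_mul_comm, Involution.mul_self ha, Involution.mul_self hb2, one_mul]
      · have hbb : b ∈ K₀ := by rw [eq_inv_of_mul_eq_one_right e]; exact K₀.inv_mem a.2
        have : b ∈ (K₀.map (MulAut.conjNormal g : L ≃* L).toMonoidHom ⊓ K₀ : Subgroup L) := ⟨hbK, hbb⟩
        rw [hdisj g hg, mem_bot] at this
        exact Involution.ne_one hb2 this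
    obtain ⟨c, hc⟩ := isConj_iff.1 ((h.one ((a : L) : G) (by rw [orderOf_coe]; exact ha)).symm.trans
      (h.one (((a : L) * b : L) : G) (by rw [orderOf_coe]; exact hab2)))
    have habK : (a : L) * b ∈ K₀.map (MulAut.conjNormal c : L ≃* L).toMonoidHom :=
      ⟨a, a.2, Subtype.ext (by rw [← hc]; exact MulAut.conjNormal_apply c (a : L))⟩
    by_cases hcK : K₀.map (MulAut.conjNormal c : L ≃* L).toMonoidHom = K₀
    · rw [hcK] at habK
      have hbb : b ∈ K₀ := by
        have := K₀.mul_mem (K₀.inv_mem a.2) habK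
        rwa [inv_mul_cancel_left] at this
      have : b ∈ (K₀.map (MulAut.conjNormal g : L ≃* L).toMonoidHom ⊓ K₀ : Subgroup L) := ⟨hbK, hbb⟩
      rw [hdisj g hg, mem_bot] at this
      exact Involution.ne_one hb2 this
    have haZ : a ∈ center K₀ := mem_center_iff.2 fun z => Subtype.ext (by
      have h1 := hcomm c hcK _ habK z z.2
      have h2 := hcomm g hg b hbK z z.2
      have h3 := h1.mul_left h2.inv_left
      rw [mul_inv_cancel_right] at h3
      exact h3.symm.eq)
    refine Involution.ne_one ha (eq_one_of_abelian_normal hO2L (Z := (center K₀).map K₀.subtype)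
      inferInstance ?_ (mem_map_of_mem _ haZ) (Involution.mul_self ha))
    rintro _ ⟨x, hx, rfl⟩ _ ⟨y, -, rfl⟩
    exact congrArg Subtype.val (mem_center_iff.1 hx y).symm
  haveI := hsimp
  obtain ⟨S⟩ : Nonempty (Sylow 2 G) := inferInstance
  refine ⟨L, hLn, hsimp, hna, fun S => h.sylow_le hLn hL0 S, htL, ?_, Nat.not_even_iff_odd.1 fun he =>
    S.not_dvd_index ((even_iff_two_dvd.1 he).trans (index_dvd_of_le (h.sylow_le hLn hL0 S)))⟩
  by_contra hC
  haveI : (centralizer (L : Set G)).Normal := inferInstance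
  have htC := h.inv_mem inferInstance hC h.inv
  have htZ : (⟨t, htL⟩ : L) ∈ center L := mem_center_iff.2 fun y => Subtype.ext (htC y y.2)
  rcases (inferInstance : (center L).Normal).eq_bot_or_eq_top with e | e
  · rw [e, mem_bot] at htZ
    exact Involution.ne_one h.inv (congrArg Subtype.val htZ)
  · exact hna ⟨⟨fun a b => mem_center_iff.1 (e ▸ mem_top b : b ∈ center L) a⟩⟩

/-- `L C(S) = G`. -/
theorem cover {L : Subgroup G} [L.Normal] (S : Sylow 2 G) (hSL : (S : Subgroup G) ≤ L) (g : G) :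
    ∃ l ∈ L, ∃ c ∈ centralizer ((S : Subgroup G) : Set G), g = l * c := by
  haveI : Fact (Nat.Prime 2) := ⟨Nat.prime_two⟩
  have hnorm : (L ⊔ centralizer ((S : Subgroup G) : Set G)).Normal := by
    rw [← normalizer_eq_top_iff, eq_top_iff, ← Sylow.normalizer_sup_eq_top' S hSL]
    refine sup_le (fun n hn => ?_) (le_trans le_sup_left le_normalizer)
    have key : ∀ m ∈ normalizer ((S : Subgroup G) : Set G),
        ∀ x ∈ L ⊔ centralizer ((S : Subgroup G) : Set G),
          m * x * m⁻¹ ∈ L ⊔ centralizer ((S : Subgroup G) : Set G) := by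
      intro m hm x hx
      obtain ⟨l, hl, c, hc, rfl⟩ := mem_sup_of_normal_left.1 hx
      refine mem_sup_of_normal_left.2 ⟨m * l * m⁻¹, ‹L.Normal›.conj_mem l hl m, m * c * m⁻¹, ?_, by group⟩
      refine mem_centralizer_iff.2 fun s hs => ?_
      have hs' : m⁻¹ * s * m ∈ ((S : Subgroup G) : Set G) := by
        have := ((mem_normalizer_iff'' (g := m)).1 hm s).1 hs
        exact this
      have := mem_centralizer_iff.1 hc _ hs'
      calc s * (m * c * m⁻¹) = m * ((m⁻¹ * s * m) * c) * m⁻¹ := by group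
        _ = m * (c * (m⁻¹ * s * m)) * m⁻¹ := by rw [this]
        _ = m * c * m⁻¹ * s := by group
    refine mem_normalizer_iff.2 fun x => ⟨key n hn x, fun hx => ?_⟩
    have := key n⁻¹ (Subgroup.inv_mem _ hn) _ hx
    rwa [inv_inv, show n⁻¹ * (n * x * n⁻¹) * n = x by group] at this
  haveI := hnorm
  have htop := eq_top_of_centralizer_le h.pmod h.core h.const h.ne S (h.sylow_comm S)
    (K := L ⊔ centralizer ((S : Subgroup G) : Set G)) le_sup_right
  obtain ⟨l, hl, c, hc, e⟩ := mem_sup_of_normal_left.1 (htop ▸ mem_top g)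
  exact ⟨l, hl, c, hc, e.symm⟩

/-- The socle is `L₂(2^n)`. -/
theorem of_even {L : Subgroup G} [L.Normal] (hSL : ∀ S : Sylow 2 G, (S : Subgroup G) ≤ L)
    (hCL : centralizer (L : Set G) = ⊥) {F : Type} [Field F] [Fintype F] {n : ℕ} (hn : 2 ≤ n)
    (hF : Fintype.card F = 2 ^ n) (e : L ≃* PSLt F) :
    ∃ (F : Type) (_ : Field F) (_ : Fintype F) (n : ℕ), 2 ≤ n ∧ Fintype.card F = 2 ^ n ∧
      Nonempty (G ≃* PSLt F) ∧ (t * w) ^ 2 = 1 := by
  haveI : Fact (Nat.Prime 2) := ⟨Nat.prime_two⟩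
  haveI : CharP F 2 := charP_of_card_eq_prime_pow (f := n) (by simpa using hF)
  obtain ⟨S⟩ : Nonempty (Sylow 2 G) := inferInstance
  have hCS : centralizer ((S : Subgroup G) : Set G) ≤ L := by
    intro c hc
    obtain ⟨y, hy⟩ := AbelianSylowAut.inner_of_char (p := 2) (α := MulAut.congr e (MulAut.conjNormal c))
      ((S.subtype (hSL S)).mapSurjective (f := e.toMonoidHom) e.surjective) fun x hx => by
        replace hx : x ∈ ((S : Subgroup G).subgroupOf L).map e.toMonoidHom := hx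
        obtain ⟨z, hz, rfl⟩ := hx
        show e (MulAut.conjNormal c (e.symm (e z))) = e z
        rw [e.symm_apply_apply]
        refine congrArg e (Subtype.ext ?_)
        rw [MulAut.conjNormal_apply, ← mem_centralizer_iff.1 hc (z : G) hz, mul_inv_cancel_right]
    have hmem : ((e.symm y : L) : G)⁻¹ * c ∈ centralizer (L : Set G) := mem_centralizer_iff.2 fun x hx => by
      have h1 : e (MulAut.conjNormal c (e.symm (e ⟨x, hx⟩))) = y * e ⟨x, hx⟩ * y⁻¹ :=
        MulEquiv.congr_fun hy (e ⟨x, hx⟩)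
      have h2 : MulAut.conjNormal c (⟨x, hx⟩ : L) = e.symm y * ⟨x, hx⟩ * (e.symm y)⁻¹ := e.injective (by
        rw [e.symm_apply_apply] at h1
        rw [h1, map_mul, map_mul, map_inv, e.apply_symm_apply])
      have h3 : c * x * c⁻¹ = ((e.symm y : L) : G) * x * ((e.symm y : L) : G)⁻¹ := by
        have := congrArg Subtype.val h2
        rwa [MulAut.conjNormal_apply, coe_mul, coe_mul, coe_inv] at this
      calc x * (((e.symm y : L) : G)⁻¹ * c)
          = ((e.symm y : L) : G)⁻¹ * (((e.symm y : L) : G) * x * ((e.symm y : L) : G)⁻¹) * c := by group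
        _ = ((e.symm y : L) : G)⁻¹ * c * x := by rw [← h3]; group
    rw [hCL, mem_bot, inv_mul_eq_one] at hmem
    rw [← hmem]
    exact (e.symm y).2
  have hL : L = ⊤ := eq_top_iff.2 fun g _ => by
    obtain ⟨l, hl, c, hc, rfl⟩ := h.cover S (hSL S) g
    exact L.mul_mem hl (hCS hc)
  let e' : G ≃* PSLt F := (topEquiv.symm.trans (MulEquiv.subgroupCongr hL.symm)).trans e
  refine ⟨F, inferInstance, inferInstance, n, hn, hF, ⟨e'⟩, ?_⟩
  have hx : orderOf (e' t) = 2 := by rw [e'.orderOf_eq, h.inv]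
  obtain ⟨P, hP⟩ := PSL2.exists_fix_of_pow_char 2 (z := e' t) (orderOf_dvd_iff_pow_eq_one.1 hx.dvd)
  have hw2 : w ^ 2 = 1 := by
    have hc : e' w * e' t = e' t * e' w := by rw [← map_mul, ← map_mul, h.comm.eq]
    have h2 := ((PSL2.centralizer_char_eq 2 hx hP).1 hc).1
    rw [← map_pow, ← map_one e'] at h2
    exact e'.injective h2
  have hw1 : w = 1 := by
    rw [← orderOf_eq_one_iff]
    rcases (Nat.dvd_prime Nat.prime_two).1 (orderOf_dvd_of_pow_eq_one hw2) with e | e
    · exact e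
    · exact absurd (e ▸ dvd_rfl) h.odd
  rw [hw1, mul_one, pow_two, Involution.mul_self h.inv]

/-- The socle `L₂(q)` with Klein four Sylow subgroups has `q = 5`. -/
theorem card_field_five {L : Subgroup G} [L.Normal] (hSL : ∀ S : Sylow 2 G, (S : Subgroup G) ≤ L)
    (htL : t ∈ L) [IsSimpleGroup L]
    {F : Type} [Field F] [Fintype F]
    (hq : Fintype.card F % 8 = 3 ∨ Fintype.card F % 8 = 5) (h3 : 3 < Fintype.card F) (e : L ≃* PSLt F) :
    Fintype.card F = 5 := by
  obtain ⟨h4L, h8⟩ := psl_two_part hq e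
  haveI : Fact (Nat.Prime 2) := ⟨Nat.prime_two⟩
  obtain ⟨P, htP⟩ := exists_sylow_mem' h.inv
  have hcard : Nat.card (P : Subgroup G) = 4 := by
    have e1 : Nat.card ((P.subtype (hSL P)) : Subgroup L) = Nat.card (P : Subgroup G) :=
      Nat.card_congr (subgroupOfEquivOfLe (hSL P)).toEquiv
    obtain ⟨j, hj⟩ := IsPGroup.iff_card.1 P.isPGroup'
    have h4 := (P.subtype (hSL P)).pow_dvd_card_of_pow_dvd_card (n := 2) h4L
    have h8' : ¬ 8 ∣ Nat.card (P : Subgroup G) := fun hd =>
      h8 (hd.trans (e1 ▸ card_subgroup_dvd_card _))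
    rw [e1, hj] at h4
    rw [hj] at h8'
    rcases j with _ | _ | _ | j
    · norm_num at h4
    · norm_num at h4
    · rw [hj]; rfl
    · exact absurd ⟨2 ^ j, by ring⟩ h8'
  haveI hK : IsKleinFour (P : Subgroup G) := by
    refine ⟨hcard, ?_⟩
    refine (Nat.dvd_prime Nat.prime_two).1 (Monoid.exponent_dvd_of_forall_pow_eq_one fun a =>
      Subtype.ext (by simpa [pow_two] using h.sq P a a.2)) |>.resolve_left fun e => ?_
    haveI := Monoid.exp_eq_one_iff.1 e
    rw [Nat.card_unique] at hcard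
    omega
  obtain ⟨z₂, z₃, z₄, ε, hε, h21, h31, -, -, -, hB, hval, -, -, -, hsum⟩ :=
    S0948.result M h.pmod P hK fun a b ha hb => (h.one a ha).symm.trans (h.one b hb)
  obtain ⟨hv2, hv3, hv4⟩ := hval t h.inv
  obtain ⟨K, hKodd, hKz, hKn, hKall, -⟩ := KleinBlock.exists_complement P h.inv htP
  have hwK : w ∈ K := hKall w h.comm.symm (Nat.not_even_iff_odd.1 fun e => h.odd (even_iff_two_dvd.1 e))
  have hu : ∀ χ ∈ principalBlock M G, (χ : G → ℂ) (t * w) = (χ : G → ℂ) t := fun χ hχ =>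
    ZStar.apply_mul_eq h.pmod ⟨1, by rw [h.inv, pow_one]⟩ K hKodd hKz hKn hwK hχ
  have h41 : (z₄ : G → ℂ) ≠ fun _ => 1 := fun e => by
    rw [e] at hv4; norm_num at hv4
  have hb2 : z₂ ∈ principalBlock M G := by rw [hB]; exact Or.inr (Or.inl rfl)
  have hb3 : z₃ ∈ principalBlock M G := by rw [hB]; exact Or.inr (Or.inr (Or.inl rfl))
  have hb4 : z₄ ∈ principalBlock M G := by rw [hB]; exact Or.inr (Or.inr (Or.inr rfl))
  have e2 := h.const z₂ hb2 h21
  have e3 := h.const z₃ hb3 h31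
  have e4 := h.const z₄ hb4 h41
  rw [hu z₂ hb2, hv2] at e2
  rw [hu z₃ hb3, hv3] at e3
  rw [hu z₄ hb4, hv4] at e4
  have h0 := hsum 1 (by simp)
  obtain ⟨d2, hd2⟩ : ∃ d : ℕ, (z₂ : G → ℂ) 1 = d := ⟨_, (exists_degree z₂).1.symm⟩
  have hd4 : charDegree (z₄ : G → ℂ) = 3 := by
    have h4c := (exists_degree z₄).1
    rcases hε with rfl | rfl
    · exfalso
      have : ((d2 + 3 : ℕ) : ℂ) = ((0 : ℕ) : ℂ) := by
        push_cast at e2 e3 e4 h0 ⊢
        rw [← hd2]
        linear_combination h0 - e3 + e4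
      have := Nat.cast_injective this
      omega
    · have : ((charDegree (z₄ : G → ℂ) : ℕ) : ℂ) = ((3 : ℕ) : ℂ) := by
        push_cast at e2 e3 e4 h0 ⊢
        rw [h4c]
        linear_combination e2 - e3 - h0
      exact Nat.cast_injective this
  let f : Matrix.SpecialLinearGroup (Fin 2) F →* G :=
    L.subtype.comp (e.symm.toMonoidHom.comp (QuotientGroup.mk' _))
  have hle := card_field_le f z₄ (by
    obtain ⟨x, hx⟩ := (e.symm.surjective.comp (QuotientGroup.mk'_surjective _)) (⟨t, htL⟩ : L)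
    refine ⟨x, ?_⟩
    rw [show f x = t from congrArg Subtype.val hx, hv4, ← (exists_degree z₄).1, hd4]
    norm_num)
  omega

/-- The socle with elementary Sylow subgroup of order 8. -/
theorem solvable_centralizer_of_eight {L : Subgroup G} [L.Normal]
    (hSL : ∀ S : Sylow 2 G, (S : Subgroup G) ≤ L) (htL : t ∈ L) [IsSimpleGroup L] (hodd : Odd L.index)
    (h8 : ∀ P : Sylow 2 L, Nat.card (P : Subgroup L) = 8) :
    Group.IsSolvable ↥(centralizer ({t} : Set G)) := by
  haveI : Fact (Nat.Prime 2) := ⟨Nat.prime_two⟩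
  by_contra hns
  obtain ⟨P, htP⟩ := exists_sylow_mem' h.inv
  have hP8 : Nat.card (P : Subgroup G) = 8 :=
    (Nat.card_congr (subgroupOfEquivOfLe (hSL P)).toEquiv).symm.trans (h8 (P.subtype (hSL P)))
  obtain ⟨χ, hχ, hd⟩ := exists_small_degree h.pmod P (h.sq P) hP8 h.inv htP h.odd h.comm h.const hns
  have hker := value_eq_degree P (h.sq P) hP8 h.one χ hd
  refine not_trivial_on h.pmod P hodd (h.cover P (hSL P)) hχ fun l hl => ?_
  rcases (inferInstance : ((Codegree.kerSub χ).comap L.subtype).Normal).eq_bot_or_eq_top with e | e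
  · have : (⟨t, htL⟩ : L) ∈ (Codegree.kerSub χ).comap L.subtype := hker
    rw [e, mem_bot] at this
    exact absurd (congrArg Subtype.val this) (Involution.ne_one h.inv)
  · have : (⟨l, hl⟩ : L) ∈ (Codegree.kerSub χ).comap L.subtype := e ▸ mem_top _
    exact this

/-- **The groups.** -/
theorem classify :
    Nat.card G = 2 ∨ ∃ (F : Type) (_ : Field F) (_ : Fintype F) (n : ℕ), 2 ≤ n ∧ Fintype.card F = 2 ^ n ∧
      Nonempty (G ≃* PSLt F) ∧ (t * w) ^ 2 = 1 := by
  haveI : Fact (Nat.Prime 2) := ⟨Nat.prime_two⟩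
  by_cases h2 : pCore 2 G = ⊥
  swap
  · exact Or.inl (h.card_two h2)
  refine Or.inr ?_
  obtain ⟨L, hLn, hsimp, hna, hSL, htL, hCL, hodd⟩ := h.exists_socle h2
  haveI := hLn
  haveI := hsimp
  obtain ⟨S⟩ : Nonempty (Sylow 2 G) := inferInstance
  have hSc : IsMulCommutative ((S.subtype (hSL S)) : Subgroup L) := ⟨⟨fun a b => by
    apply Subtype.ext
    apply Subtype.ext
    have hab := congrArg Subtype.val ((h.sylow_comm S).is_comm.comm ⟨((a : L) : G), a.2⟩ ⟨((b : L) : G), b.2⟩)
    exact hab⟩⟩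
  rcases AbelianSylow.simple_cases hna (S.subtype (hSL S)) hSc with
    ⟨n, hn, F, _, _, hF, ⟨e⟩⟩ | ⟨F, _, _, ⟨hq, h5'⟩, ⟨e⟩⟩ | hel
  · exact h.of_even hSL hCL hn hF e
  · have h5 := h.card_field_five hSL htL hq (by omega) e
    haveI : Fintype (GaloisField 2 2) := Fintype.ofFinite _
    have h4 : Fintype.card (GaloisField 2 2) = 4 := by
      rw [← Nat.card_eq_fintype_card, GaloisField.card _ _ two_ne_zero]; rfl
    obtain ⟨e5⟩ := S0253.result (F := F) h5
    obtain ⟨e4⟩ := S0252.result (F := GaloisField 2 2) h4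
    exact h.of_even hSL hCL le_rfl (h4.trans (by norm_num)) ((e.trans e5).trans e4.symm)
  · have hsol := h.solvable_centralizer_of_eight hSL htL hodd fun P => (hel.sylow P).2
    have hall : ∀ v : L, orderOf v = 2 → Group.IsSolvable ↥(centralizer ({v} : Set L)) := by
      intro v hv
      obtain ⟨c, hc⟩ := isConj_iff.1 (h.one (v : G) (by rw [orderOf_coe]; exact hv))
      haveI := hsol
      let φ : ↥(centralizer ({v} : Set L)) →* ↥(centralizer ({t} : Set G)) :=
        (((MulAut.conj c⁻¹).toMonoidHom.comp L.subtype).comp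
          (centralizer ({v} : Set L)).subtype).codRestrict _ fun z => by
          refine mem_centralizer_singleton_iff.2 ?_
          have hz : ((z : L) : G) * v = (v : G) * (z : L) :=
            congrArg Subtype.val (mem_centralizer_singleton_iff.1 z.2)
          rw [← hc] at hz
          show c⁻¹ * ((z : L) : G) * c⁻¹⁻¹ * t = t * (c⁻¹ * ((z : L) : G) * c⁻¹⁻¹)
          calc c⁻¹ * ((z : L) : G) * c⁻¹⁻¹ * t = c⁻¹ * (((z : L) : G) * (c * t * c⁻¹)) * c := by group
            _ = c⁻¹ * (c * t * c⁻¹ * ((z : L) : G)) * c := by rw [hz]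
            _ = t * (c⁻¹ * ((z : L) : G) * c⁻¹⁻¹) := by group
      refine Group.isSolvable_of_isSolvable_injective (f := φ) fun a b e => ?_
      exact Subtype.ext (Subtype.ext ((MulAut.conj c⁻¹).injective (congrArg Subtype.val e)))
    have hns : ¬ Group.IsSolvable L := fun hs => hna ⟨⟨IsSimpleGroup.comm_iff_isSolvable.2 hs⟩⟩
    rcases S3188.result (S.subtype (hSL S)) hSc hall with hs | ⟨F, _, _, hq, N, hN, ⟨eN⟩, -⟩
    · exact absurd hs hns
    have hOL : oddCore L = ⊥ := (AbelianSylowTwo.cores_of_normal h.core h2 L).1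
    let eL : L ⧸ oddCore L ≃* L :=
      (QuotientGroup.quotientMulEquivOfEq hOL).trans QuotientGroup.quotientBot
    have hN' : (N.map eL.toMonoidHom) = ⊤ := by
      haveI : (N.map eL.toMonoidHom).Normal := hN.map _ eL.surjective
      refine (inferInstance : (N.map eL.toMonoidHom).Normal).eq_bot_or_eq_top.resolve_left fun e0 => ?_
      rw [map_eq_bot_iff_of_injective _ eL.injective] at e0
      haveI : Nontrivial (PSLt F) := by
        refine Finite.one_lt_card_iff_nontrivial.1 ?_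
        have hc := PSL2.card_psl_mul (F := F)
        rw [Nat.card_eq_fintype_card (α := F)] at hc
        have hq4 : 4 ≤ Fintype.card F := by
          rcases hq with ⟨-, h5⟩ | ⟨n, hn, hF⟩
          · omega
          · rw [hF]; exact le_trans (le_of_eq (by norm_num)) (Nat.pow_le_pow_right two_pos hn)
        have hg : Nat.gcd 2 (Fintype.card F - 1) ≤ 2 := Nat.le_of_dvd two_pos (Nat.gcd_dvd_left _ _)
        have hge : 4 * ((4 + 1) * (4 - 1)) ≤ Fintype.card F * ((Fintype.card F + 1) * (Fintype.card F - 1)) :=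
          Nat.mul_le_mul hq4 (Nat.mul_le_mul (by omega) (by omega))
        rw [← hc] at hge
        have := Nat.mul_le_mul_right (Nat.card (PSLt F)) hg
        change 1 < Nat.card (PSLt F)
        change _ * Nat.card (PSLt F) = _ at hc
        change _ ≤ _ * Nat.card (PSLt F) at hge
        omega
      have h1 : Subsingleton N := by rw [e0]; infer_instance
      exact not_subsingleton _ eN.symm.toEquiv.subsingleton
    have eLF : L ≃* PSLt F :=
      (((topEquiv.symm.trans (MulEquiv.subgroupCongr hN'.symm)).trans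
        (N.equivMapOfInjective _ eL.injective).symm).trans eN)
    rcases hq with ⟨hq, h5⟩ | ⟨n, hn, hF⟩
    · exact absurd ((hel.sylow (S.subtype (hSL S))).2 ▸ card_subgroup_dvd_card _) (psl_two_part hq eLF).2
    · exact h.of_even hSL hCL hn hF eLF

end Setting

/-- The forward direction with trivial core. -/
theorem forward (hM : IsPModular 2 M) (hO : oddCore G = ⊥) {u : G} (hC : Const M u k) (hu : u ≠ 1) :
    Nat.card G = 2 ∨ ∃ (F : Type) (_ : Field F) (_ : Fintype F) (n : ℕ), 2 ≤ n ∧ Fintype.card F = 2 ^ n ∧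
      Nonempty (G ≃* PSLt F) ∧ u ^ 2 = 1 := by
  obtain ⟨t, w, rfl, hs⟩ := exists_setting hM hO hC hu
  exact hs.classify

end Cfsg.Agent.ConstDiff
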